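import Mathlib

/-!
# Endomorphisms of `k[[t]]` and linearisation of involutions
-/

set_option autoImplicit false

open PowerSeries

universe u

namespace ArInv

variable {k : Type u} [Field k]

theorem constantCoeff_algHom_X (ψ : PowerSeries k →ₐ[k] PowerSeries k) :
    constantCoeff (ψ X) = 0 := by
  by_contra h
  set c := constantCoeff (ψ X) with hc
  have hu : IsUnit (X - C c : PowerSeries k) := by
    rw [isUnit_iff_constantCoeff]
    simpa using h
  have := isUnit_iff_constantCoeff.1 (hu.map ψ)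
  rw [map_sub, ← algebraMap_eq, AlgHom.commutes, algebraMap_eq, map_sub, constantCoeff_C, ← hc,
    sub_self] at this
  exact not_isUnit_zero this

theorem algHom_eq_subst (ψ : PowerSeries k →ₐ[k] PowerSeries k) (f : PowerSeries k) :
    ψ f = f.subst (ψ X) := by
  have hs : HasSubst (ψ X) := HasSubst.of_constantCoeff_zero' (constantCoeff_algHom_X ψ)
  ext n
  have hdec : f = (trunc (n + 1) f : PowerSeries k) + X ^ (n + 1) *
      mk fun i => coeff (i + (n + 1)) f := by
    conv_lhs => rw [eq_X_pow_mul_shift_add_trunc (n + 1) f]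
    rw [add_comm]
  rw [← coe_substAlgHom hs]
  set χ : PowerSeries k →ₐ[k] PowerSeries k := substAlgHom hs with hχ
  have hX : χ X = ψ X := by rw [hχ, coe_substAlgHom, subst_X hs]
  have hp : ∀ p : Polynomial k, ψ (p : PowerSeries k) = χ (p : PowerSeries k) := fun p => by
    have : ψ.comp (Polynomial.coeToPowerSeries.algHom k) = χ.comp (Polynomial.coeToPowerSeries.algHom k) := by
      apply Polynomial.algHom_ext
      simp [hX]
    simpa using DFunLike.congr_fun this p
  have hd : (X : PowerSeries k) ^ (n + 1) ∣ (ψ X) ^ (n + 1) :=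
    pow_dvd_pow_of_dvd (X_dvd_iff.2 (constantCoeff_algHom_X ψ)) _
  rw [hdec, map_add ψ, map_add χ, map_mul ψ, map_mul χ, map_pow ψ, map_pow χ, hp, hX, map_add, map_add,
    X_pow_dvd_iff.1 (hd.mul_right _) n (by omega), X_pow_dvd_iff.1 (hd.mul_right _) n (by omega)]

theorem algHom_ext {ψ χ : PowerSeries k →ₐ[k] PowerSeries k} (h : ψ X = χ X) : ψ = χ := by
  ext1 f
  rw [algHom_eq_subst ψ, algHom_eq_subst χ, h]

theorem coeff_one_algHom (ψ : PowerSeries k →ₐ[k] PowerSeries k) (f : PowerSeries k) :
    coeff 1 (ψ f) = coeff 1 f * coeff 1 (ψ X) := by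
  have hdec : f = C (constantCoeff f) + C (coeff 1 f) * X + X ^ 2 * mk fun i => coeff (i + 2) f := by
    ext n
    rcases n with - | - | n
    · simp
    · simp [coeff_X_pow_mul']
    · simp [coeff_X_pow_mul', coeff_C, coeff_X]
  obtain ⟨t, ht⟩ := X_dvd_iff.2 (constantCoeff_algHom_X ψ)
  conv_lhs => rw [hdec]
  rw [map_add ψ, map_add ψ, map_mul ψ, map_mul ψ, map_pow ψ, ← algebraMap_eq, AlgHom.commutes,
    AlgHom.commutes, algebraMap_eq, ht, mul_pow]
  simp [mul_assoc, coeff_X_pow_mul', coeff_C]

/-- substitution by a series of order one as an automorphism -/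
noncomputable def substEquiv (s : PowerSeries k) (h0 : constantCoeff s = 0) (h1 : coeff 1 s ≠ 0) :
    PowerSeries k ≃ₐ[k] PowerSeries k :=
  AlgEquiv.ofAlgHom (substAlgHom (HasSubst.of_constantCoeff_zero' h0))
    (substAlgHom (HasSubst.substInvOfIsUnit s (isUnit_iff_ne_zero.2 h1)))
    (algHom_ext (by
      rw [AlgHom.comp_apply, AlgHom.id_apply, coe_substAlgHom, coe_substAlgHom,
        subst_X (HasSubst.substInvOfIsUnit s (isUnit_iff_ne_zero.2 h1)),
        subst_substInvOfIsUnit_left s h0]))
    (algHom_ext (by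
      rw [AlgHom.comp_apply, AlgHom.id_apply, coe_substAlgHom, coe_substAlgHom,
        subst_X (HasSubst.of_constantCoeff_zero' h0), subst_substInvOfIsUnit_right s h0]))

theorem substEquiv_X (s : PowerSeries k) (h0 : constantCoeff s = 0) (h1 : coeff 1 s ≠ 0) :
    substEquiv s h0 h1 X = s := by
  rw [substEquiv]
  exact (congrFun (coe_substAlgHom (R := k) (HasSubst.of_constantCoeff_zero' h0)) X).trans
    (subst_X (HasSubst.of_constantCoeff_zero' h0))

theorem linearise (h2 : (2 : k) ≠ 0) (σ : PowerSeries k ≃ₐ[k] PowerSeries k)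
    (hσ : ∀ f, σ (σ f) = f) :
    (coeff 1 (σ X)) ^ 2 = 1 ∧
    ∃ φ : PowerSeries k ≃ₐ[k] PowerSeries k,
      φ X = C (2⁻¹ : k) * (X + C (coeff 1 (σ X)) * σ X) ∧
      ∀ f, φ.symm (σ (φ f)) = rescale (coeff 1 (σ X)) f := by
  set c := coeff 1 (σ X) with hc
  have hc2 : c * c = 1 := by
    have h := coeff_one_algHom σ.toAlgHom (σ X)
    simp only [AlgEquiv.coe_toAlgHom] at h
    rw [hσ, coeff_one_X, ← hc] at h
    exact h.symm
  refine ⟨by rw [sq, hc2], ?_⟩
  set s := C (2⁻¹ : k) * (X + C c * σ X) with hs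
  have h0 : constantCoeff s = 0 := by
    have := constantCoeff_algHom_X σ.toAlgHom
    simp only [AlgEquiv.coe_toAlgHom] at this
    simp [hs, this]
  have h1 : coeff 1 s ≠ 0 := by
    have : coeff 1 s = 1 := by
      rw [hs, coeff_C_mul, map_add, coeff_C_mul, coeff_one_X, ← hc, hc2]
      field_simp
      norm_num
    rw [this]
    exact one_ne_zero
  refine ⟨substEquiv s h0 h1, substEquiv_X s h0 h1, fun f => ?_⟩
  have hC : ∀ a : k, σ (C a) = C a := fun a => by rw [← algebraMap_eq, AlgEquiv.commutes]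
  have hsig : σ s = C c * s := by
    rw [hs, map_mul, map_add, map_mul, hσ, hC, hC]
    calc C (2⁻¹ : k) * (σ X + C c * X) = C (2⁻¹ : k) * (C c * X + C (c * c) * σ X) := by
          rw [hc2, map_one, one_mul, add_comm]
      _ = C c * (C (2⁻¹ : k) * (X + C c * σ X)) := by rw [map_mul]; ring
  let R : PowerSeries k →ₐ[k] PowerSeries k :=
    { rescale c with
      commutes' := fun a => by
        show rescale c (algebraMap k (PowerSeries k) a) = algebraMap k (PowerSeries k) a
        rw [algebraMap_eq]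
        ext n
        rw [coeff_rescale, coeff_C]
        split_ifs with h <;> simp [h] }
  have : ((substEquiv s h0 h1).trans (σ.trans (substEquiv s h0 h1).symm)).toAlgHom = R := by
    apply algHom_ext
    show (substEquiv s h0 h1).symm (σ (substEquiv s h0 h1 X)) = rescale c X
    rw [substEquiv_X, hsig, map_mul, rescale_X, ← algebraMap_eq, AlgEquiv.commutes]
    congr 1
    rw [AlgEquiv.symm_apply_eq, substEquiv_X]
  exact DFunLike.congr_fun this f

end ArInv
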