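import Mathlib
import Groth.Prelude.Def_W4c1arstab1appArSing
import Groth.Agent.ArInv.PowerSeries

/-!
# Normal form `a = p(x) + q(x) y` in `k[[x,y]]/(y^2 - x^(r+1))`
-/

set_option autoImplicit false

universe u

namespace ArInv

open PowerSeries

variable {k : Type u} [Field k] {r : ℕ}

noncomputable section

/-- `0 ↦ some ()`, `1 ↦ none` -/
def finTwoOption : Fin 2 ≃ Option Unit where
  toFun i := if i = 0 then some () else none
  invFun o := o.elim 1 (fun _ => 0)
  left_inv i := by fin_cases i <;> simp
  right_inv o := by rcases o with _ | ⟨⟩ <;> simp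

/-- Weierstrass, stated for an abstract coefficient ring -/
def genEquiv {A : Type u} [CommRing A] {I : Ideal A} [IsAdicComplete I A] {g : Polynomial A}
    (H : g.IsDistinguishedAt I) :
    (Polynomial A ⧸ Ideal.span {g}) ≃+* (PowerSeries A ⧸ Ideal.span {(g : PowerSeries A)}) :=
  H.algEquivQuotient.toRingEquiv

theorem genEquiv_mk {A : Type u} [CommRing A] {I : Ideal A} [IsAdicComplete I A] {g : Polynomial A}
    (H : g.IsDistinguishedAt I) (f : Polynomial A) :
    genEquiv H (Ideal.Quotient.mk _ f) = Ideal.Quotient.mk _ (f : PowerSeries A) := by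
  simp [genEquiv, Polynomial.IsDistinguishedAt.algEquivQuotient]

/-- `k[[x,y]] ≃ k[[x]][[y]]` -/
def iterEquiv (k : Type u) [Field k] :
    MvPowerSeries (Fin 2) k ≃ₐ[k] PowerSeries (PowerSeries k) :=
  (MvPowerSeries.renameEquiv k finTwoOption).trans (MvPowerSeries.optionEquivLeft Unit k)

theorem iterEquiv_X0 : iterEquiv k (MvPowerSeries.X 0) = C (X : PowerSeries k) := by
  simp [iterEquiv, finTwoOption, PowerSeries.X]

theorem iterEquiv_X1 : iterEquiv k (MvPowerSeries.X 1) = (X : PowerSeries (PowerSeries k)) := by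
  simp [iterEquiv, finTwoOption]

/-- the distinguished polynomial -/
def gpoly (k : Type u) [Field k] (r : ℕ) : Polynomial (PowerSeries k) :=
  Polynomial.X ^ 2 - Polynomial.C ((X : PowerSeries k) ^ (r + 1))

theorem C_algebraMap (c : k) :
    algebraMap k (PowerSeries (PowerSeries k)) c = C (algebraMap k (PowerSeries k) c) := by
  rw [PowerSeries.algebraMap_apply]

theorem gpoly_monic : (gpoly k r).Monic := Polynomial.monic_X_pow_sub_C _ (by norm_num)

theorem gpoly_natDegree : (gpoly k r).natDegree = 2 := Polynomial.natDegree_X_pow_sub_C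

theorem iterEquiv_eqn :
    iterEquiv k (ArSing.eqn k r) = (gpoly k r : PowerSeries (PowerSeries k)) := by
  simp [ArSing.eqn, gpoly, iterEquiv_X0, iterEquiv_X1]

theorem gpoly_distinguished :
    (gpoly k r).IsDistinguishedAt (IsLocalRing.maximalIdeal (PowerSeries k)) := by
  refine ⟨⟨fun {n} hn => ?_⟩, gpoly_monic⟩
  rw [gpoly_natDegree] at hn
  have hm : (X : PowerSeries k) ^ (r + 1) ∈ IsLocalRing.maximalIdeal (PowerSeries k) := by
    rw [PowerSeries.maximalIdeal_eq_span_X]
    exact Ideal.pow_mem_of_mem _ (Ideal.mem_span_singleton_self _) _ (by omega)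
  rcases n with - | - | n
  · rw [gpoly, Polynomial.coeff_sub, Polynomial.coeff_X_pow, Polynomial.coeff_C_zero, if_neg (by norm_num), zero_sub, neg_mem_iff]
    exact hm
  · rw [gpoly, Polynomial.coeff_sub, Polynomial.coeff_X_pow, Polynomial.coeff_C, if_neg (by norm_num), if_neg (by norm_num), sub_zero]
    exact zero_mem _
  · omega

local instance : IsAdicComplete (IsLocalRing.maximalIdeal (PowerSeries k)) (PowerSeries k) := by
  rw [PowerSeries.maximalIdeal_eq_span_X]
  infer_instance

/-- `ι(p) = p(x)` -/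
abbrev ι (k : Type u) [Field k] (r : ℕ) : PowerSeries k →ₐ[k] ArSing.ring k r := ArSing.xMap k r

/-- `R ≃ k[[x]][y]/(g)` -/
def polyEquiv (k : Type u) [Field k] (r : ℕ) :
    ArSing.ring k r ≃ₐ[k] (Polynomial (PowerSeries k) ⧸ Ideal.span {gpoly k r}) :=
  AlgEquiv.ofRingEquiv (f := (Ideal.quotientEquiv (Ideal.span {ArSing.eqn k r})
      (Ideal.span {(gpoly k r : PowerSeries (PowerSeries k))}) (iterEquiv k).toRingEquiv
      (by rw [Ideal.map_span, Set.image_singleton]; congr 2; exact iterEquiv_eqn.symm)).trans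
    (genEquiv (gpoly_distinguished (k := k) (r := r))).symm) (fun c => by
      rw [RingEquiv.trans_apply]
      rw [RingEquiv.symm_apply_eq]
      show Ideal.Quotient.mk _ (iterEquiv k (algebraMap k (MvPowerSeries (Fin 2) k) c)) =
        genEquiv _ (Ideal.Quotient.mk _ (algebraMap k (Polynomial (PowerSeries k)) c))
      rw [genEquiv_mk, AlgEquiv.commutes, IsScalarTower.algebraMap_apply k (PowerSeries k) (Polynomial (PowerSeries k)), Polynomial.algebraMap_eq, Polynomial.coe_C, C_algebraMap])

theorem iterEquiv_subst_X0 (f : PowerSeries k) :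
    iterEquiv k (f.subst (MvPowerSeries.X (0 : Fin 2))) = C f := by
  have hs : HasSubst (MvPowerSeries.X (0 : Fin 2) : MvPowerSeries (Fin 2) k) :=
    HasSubst.of_constantCoeff_zero (MvPowerSeries.constantCoeff_X _)
  let ψ : PowerSeries k →ₐ[k] PowerSeries (PowerSeries k) :=
    (iterEquiv k).toAlgHom.comp (substAlgHom hs)
  let χ : PowerSeries k →ₐ[k] PowerSeries (PowerSeries k) :=
    { (C : PowerSeries k →+* PowerSeries (PowerSeries k)) with commutes' := fun c => (C_algebraMap c).symm }
  have hψ : ∀ g, ψ g = iterEquiv k (g.subst (MvPowerSeries.X (0 : Fin 2))) := fun g => by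
    simp [ψ, coe_substAlgHom]
  have hχ : ∀ g, χ g = C g := fun g => rfl
  have hX : ψ X = χ X := by rw [hψ, subst_X hs, iterEquiv_X0, hχ]
  rw [← hψ, ← hχ]
  have hp : ∀ p : Polynomial k, ψ (p : PowerSeries k) = χ (p : PowerSeries k) := fun p => by
    have : ψ.comp (Polynomial.coeToPowerSeries.algHom k) =
        χ.comp (Polynomial.coeToPowerSeries.algHom k) := by
      apply Polynomial.algHom_ext
      simpa using hX
    simpa using DFunLike.congr_fun this p
  ext i j
  set g := mk fun i => coeff (i + (j + 1)) f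
  have hf : f = X ^ (j + 1) * g + (trunc (j + 1) f : PowerSeries k) :=
    eq_X_pow_mul_shift_add_trunc (j + 1) f
  rw [hf, map_add ψ, map_add χ, map_mul ψ, map_mul χ, map_pow ψ, map_pow χ, hp, hX, map_add, map_add,
    map_add, map_add, hχ, ← map_pow, coeff_C_mul, coeff_C_mul]
  rw [X_pow_dvd_iff.1 (dvd_mul_right _ _) j (by omega),
    X_pow_dvd_iff.1 (dvd_mul_right _ _) j (by omega)]

theorem polyEquiv_ι (p : PowerSeries k) :
    polyEquiv k r (ι k r p) = Ideal.Quotient.mk _ (Polynomial.C p) := by
  rw [polyEquiv, AlgEquiv.ofRingEquiv_apply, RingEquiv.trans_apply, RingEquiv.symm_apply_eq,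
    genEquiv_mk]
  have hs : HasSubst (MvPowerSeries.X (0 : Fin 2) : MvPowerSeries (Fin 2) k) :=
    HasSubst.of_constantCoeff_zero (MvPowerSeries.constantCoeff_X _)
  show Ideal.Quotient.mk _ (iterEquiv k (substAlgHom hs p)) = _
  rw [coe_substAlgHom, iterEquiv_subst_X0, Polynomial.coe_C]

theorem polyEquiv_y :
    polyEquiv k r (ArSing.y k r) = Ideal.Quotient.mk _ Polynomial.X := by
  rw [polyEquiv, AlgEquiv.ofRingEquiv_apply, RingEquiv.trans_apply, RingEquiv.symm_apply_eq,
    genEquiv_mk]
  show Ideal.Quotient.mk _ (iterEquiv k (MvPowerSeries.X 1)) = _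
  rw [iterEquiv_X1, Polynomial.coe_X]

/-- the element `p(x) + q(x) y` -/
def nf (r : ℕ) (p q : PowerSeries k) : ArSing.ring k r := ι k r p + ι k r q * ArSing.y k r

theorem polyEquiv_nf (p q : PowerSeries k) :
    polyEquiv k r (nf r p q) =
      Ideal.Quotient.mk _ (Polynomial.C p + Polynomial.C q * Polynomial.X) := by
  rw [nf, map_add, map_mul, polyEquiv_ι, polyEquiv_ι, polyEquiv_y]
  simp

theorem nf_exists (a : ArSing.ring k r) : ∃ p q, a = nf r p q := by
  obtain ⟨f, hf⟩ := Ideal.Quotient.mk_surjective (polyEquiv k r a)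
  set m := f %ₘ gpoly k r
  refine ⟨m.coeff 0, m.coeff 1, (polyEquiv k r).injective ?_⟩
  rw [polyEquiv_nf, ← hf, Ideal.Quotient.eq, Ideal.mem_span_singleton]
  have hm : m.natDegree ≤ 1 := by
    have : m.natDegree < (gpoly k r).natDegree :=
      Polynomial.natDegree_modByMonic_lt f gpoly_monic (fun h => by
        have := congrArg Polynomial.natDegree h
        rw [gpoly_natDegree] at this
        simp at this)
    rw [gpoly_natDegree] at this
    omega
  rw [add_comm (Polynomial.C _), ← Polynomial.eq_X_add_C_of_natDegree_le_one hm]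
  exact ⟨f /ₘ gpoly k r, by
    have := Polynomial.modByMonic_add_div f (gpoly k r)
    linear_combination -this⟩

theorem nf_eq_zero {p q : PowerSeries k} (h : nf r p q = 0) : p = 0 ∧ q = 0 := by
  have h' := congrArg (polyEquiv k r) h
  rw [polyEquiv_nf, map_zero, Ideal.Quotient.eq_zero_iff_mem, Ideal.mem_span_singleton] at h'
  have h0 : Polynomial.C p + Polynomial.C q * Polynomial.X = 0 := by
    refine Polynomial.eq_zero_of_dvd_of_natDegree_lt h' ?_
    rw [gpoly_natDegree]
    exact lt_of_le_of_lt (Polynomial.natDegree_add_le _ _) (max_lt (by simp) (lt_of_le_of_lt Polynomial.natDegree_mul_le (by simp [Polynomial.natDegree_X_le.trans_lt])))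
  constructor
  · simpa using congrArg (fun f => Polynomial.coeff f 0) h0
  · simpa using congrArg (fun f => Polynomial.coeff f 1) h0

theorem nf_add (p q p' q' : PowerSeries k) : nf r p q + nf r p' q' = nf r (p + p') (q + q') := by
  simp only [nf, map_add]; ring

theorem nf_neg (p q : PowerSeries k) : -nf r p q = nf r (-p) (-q) := by
  simp only [nf, map_neg]; ring

theorem nf_sub (p q p' q' : PowerSeries k) : nf r p q - nf r p' q' = nf r (p - p') (q - q') := by
  simp only [nf, map_sub]; ring

theorem nf_inj {p q p' q' : PowerSeries k} (h : nf r p q = nf r p' q') : p = p' ∧ q = q' := by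
  have := nf_eq_zero (r := r) (p := p - p') (q := q - q') (by rw [← nf_sub, h, sub_self])
  exact ⟨sub_eq_zero.1 this.1, sub_eq_zero.1 this.2⟩

theorem y_sq : ArSing.y k r * ArSing.y k r = ι k r (X ^ (r + 1)) := by
  refine (polyEquiv k r).injective ?_
  rw [map_mul, polyEquiv_y, polyEquiv_ι, ← map_mul, Ideal.Quotient.eq, Ideal.mem_span_singleton]
  exact ⟨1, by rw [gpoly]; ring⟩

theorem ι_X : ι k r X = ArSing.x k r := by
  have hs : HasSubst (MvPowerSeries.X (0 : Fin 2) : MvPowerSeries (Fin 2) k) :=
    HasSubst.of_constantCoeff_zero (MvPowerSeries.constantCoeff_X _)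
  show Ideal.Quotient.mk _ (substAlgHom hs (X : PowerSeries k)) = _
  rw [coe_substAlgHom, subst_X (HasSubst.of_constantCoeff_zero (MvPowerSeries.constantCoeff_X _))]

theorem nf_mul (p q p' q' : PowerSeries k) :
    nf r p q * nf r p' q' = nf r (p * p' + q * q' * X ^ (r + 1)) (p * q' + q * p') := by
  simp only [nf, map_add, map_mul]
  linear_combination ι k r q * ι k r q' * y_sq (k := k) (r := r)

theorem nf_zero_right (p : PowerSeries k) : nf r p 0 = ι k r p := by simp [nf]

theorem nf_x : nf r (X : PowerSeries k) 0 = ArSing.x k r := by rw [nf_zero_right, ι_X]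

theorem nf_y : nf r (0 : PowerSeries k) 1 = ArSing.y k r := by simp [nf]

theorem nf_smul (c : k) (p q : PowerSeries k) : c • nf r p q = nf r (c • p) (c • q) := by
  simp only [nf, map_smul, smul_add, smul_mul_assoc]

/-- the value at the closed point -/
theorem isUnit_nf_iff (p q : PowerSeries k) : IsUnit (nf r p q) ↔ constantCoeff p ≠ 0 := by
  constructor
  · intro h hp
    obtain ⟨b, hb⟩ := h.exists_right_inv
    obtain ⟨p', q', rfl⟩ := nf_exists b
    rw [nf_mul, ← nf_zero_right (r := r) (1 : PowerSeries k) |>.trans (map_one (ι k r))] at hb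
    have := congrArg constantCoeff (nf_inj hb).1
    simp [hp, pow_succ] at this
  · intro hp
    set D := p * p - q * q * X ^ (r + 1)
    have hD : IsUnit D := isUnit_iff_constantCoeff.2 (by
      simp [D, pow_succ, hp])
    obtain ⟨u, hu⟩ := hD.exists_right_inv
    refine IsUnit.of_mul_eq_one (nf r (p * u) (-q * u)) ?_
    rw [nf_mul, show p * (p * u) + q * (-q * u) * X ^ (r + 1) = D * u by simp only [D]; ring,
      show p * (-q * u) + q * (p * u) = 0 by ring, hu, nf_zero_right, map_one]

instance instLocal : IsLocalRing (ArSing.ring k r) := by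
  haveI : Nontrivial (ArSing.ring k r) := by
    refine ⟨0, 1, fun h => ?_⟩
    have := (nf_eq_zero (r := r) (p := (1 : PowerSeries k)) (q := 0) (by rw [nf_zero_right, map_one, h])).1
    exact one_ne_zero this
  apply IsLocalRing.of_nonunits_add
  intro a b ha hb
  obtain ⟨p, q, rfl⟩ := nf_exists a
  obtain ⟨p', q', rfl⟩ := nf_exists b
  simp only [mem_nonunits_iff, isUnit_nf_iff, not_not] at ha hb ⊢
  rw [nf_add, isUnit_nf_iff, map_add, ha, hb, not_not, add_zero]

theorem mem_maximalIdeal_nf (p q : PowerSeries k) :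
    nf r p q ∈ IsLocalRing.maximalIdeal (ArSing.ring k r) ↔ constantCoeff p = 0 := by
  rw [IsLocalRing.mem_maximalIdeal, mem_nonunits_iff, isUnit_nf_iff, not_not]

/-- elements divisible by all powers of `x` vanish -/
theorem eq_zero_of_forall_dvd (a : ArSing.ring k r) (h : ∀ n : ℕ, ArSing.x k r ^ n ∣ a) : a = 0 := by
  obtain ⟨p, q, rfl⟩ := nf_exists a
  have key : ∀ n : ℕ, X ^ n ∣ p ∧ X ^ n ∣ q := by
    intro n
    obtain ⟨b, hb⟩ := h n
    obtain ⟨p', q', rfl⟩ := nf_exists b
    rw [← ι_X, ← map_pow, ← nf_zero_right, nf_mul, zero_mul, zero_mul, zero_mul, add_zero, add_zero] at hb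
    exact ⟨⟨p', (nf_inj hb).1⟩, ⟨q', (nf_inj hb).2⟩⟩
  have hp : p = 0 := by
    ext n
    rw [map_zero]
    exact X_pow_dvd_iff.1 (key (n + 1)).1 n (by omega)
  have hq : q = 0 := by
    ext n
    rw [map_zero]
    exact X_pow_dvd_iff.1 (key (n + 1)).2 n (by omega)
  simp [hp, hq, nf]

/-- a `k`-algebra map out of `k[[t]]` is determined by the image of `t`,
if some power of this image is divisible by `x` -/
theorem hom_ext {ψ χ : PowerSeries k →ₐ[k] ArSing.ring k r} (h : ψ X = χ X) (N : ℕ)
    (hx : ArSing.x k r ∣ ψ X ^ N) : ψ = χ := by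
  ext1 f
  rw [← sub_eq_zero]
  refine eq_zero_of_forall_dvd _ fun n => ?_
  have hp : ∀ p : Polynomial k, ψ (p : PowerSeries k) = χ (p : PowerSeries k) := fun p => by
    have : ψ.comp (Polynomial.coeToPowerSeries.algHom k) =
        χ.comp (Polynomial.coeToPowerSeries.algHom k) := by
      apply Polynomial.algHom_ext
      simpa using h
    simpa using DFunLike.congr_fun this p
  conv => arg 2; rw [eq_X_pow_mul_shift_add_trunc (N * n) f]
  rw [map_add, map_add, map_mul, map_mul, map_pow, map_pow, hp, ← h, add_sub_add_right_eq_sub,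
    ← mul_sub, pow_mul]
  exact (pow_dvd_pow_of_dvd hx n).mul_right _

/-- length over the local ring = dimension over `k` -/
theorem length_eq (M : Type u) [AddCommGroup M] [Module k M] [Module (ArSing.ring k r) M]
    [IsScalarTower k (ArSing.ring k r) M] (n : ℕ) (e : M ≃ₗ[k] (Fin n → k)) :
    Module.length (ArSing.ring k r) M = n := by
  have h1 : Module.length k M = n := by
    rw [e.length_eq, Module.length_eq_finrank, Module.finrank_fin_fun]
  haveI : IsLocalHom (algebraMap k (ArSing.ring k r)) := ⟨fun a ha => by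
    refine isUnit_iff_ne_zero.2 fun h => ?_
    rw [h, map_zero] at ha
    exact not_isUnit_zero ha⟩
  have hbij : Function.Surjective (algebraMap (IsLocalRing.ResidueField k)
      (IsLocalRing.ResidueField (ArSing.ring k r))) := by
    intro z
    obtain ⟨a, rfl⟩ := IsLocalRing.residue_surjective z
    obtain ⟨p, q, rfl⟩ := nf_exists a
    refine ⟨IsLocalRing.residue k (constantCoeff p), ?_⟩
    rw [IsLocalRing.ResidueField.algebraMap_residue]
    refine (sub_eq_zero.1 ?_)
    rw [← map_sub, IsLocalRing.residue_eq_zero_iff, ← (ι k r).commutes, ← nf_zero_right, nf_sub,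
      mem_maximalIdeal_nf]
    simp
  have hres : Module.length (IsLocalRing.ResidueField k)
      (IsLocalRing.ResidueField (ArSing.ring k r)) = 1 := by
    rw [← (LinearEquiv.ofBijective (Algebra.linearMap (IsLocalRing.ResidueField k)
      (IsLocalRing.ResidueField (ArSing.ring k r))) ⟨RingHom.injective _, hbij⟩).length_eq,
      Module.length_eq_finrank, Module.finrank_self, Nat.cast_one]
  have := IsLocalRing.length_restrictScalars k (ArSing.ring k r) M
  rw [h1, hres, mul_one] at this
  exact this.symm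

end

end ArInv
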