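import Mathlib
import Groth.Agent.ArInv.Normal

/-!
# Standard involutions of `A_r` singularities: fixed rings
-/

set_option autoImplicit false

universe u

namespace ArInv

open PowerSeries

variable {k : Type u} [Field k] {r : ℕ}

noncomputable section

/-- equational criterion for a single relation between two elements -/
theorem flat_pair {A B : Type u} [CommRing A] [CommRing B] (φ : A →+* B) (hφ : φ.Flat) (f₀ f₁ : A)
    (x₀ x₁ : B) (h : φ f₀ * x₀ + φ f₁ * x₁ = 0) :
    ∃ (N : ℕ) (a b : Fin N → A) (z : Fin N → B),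
      x₀ = ∑ j, φ (a j) * z j ∧ x₁ = ∑ j, φ (b j) * z j ∧ ∀ j, f₀ * a j + f₁ * b j = 0 := by
  letI := φ.toAlgebra
  haveI : Module.Flat A B := hφ
  have hsm : ∀ (c : A) (x : B), c • x = φ c * x := fun c x => rfl
  have hrel : ∑ i : Fin 2, (![f₀, f₁] i) • (![x₀, x₁] i) = 0 := by
    simpa [hsm] using h
  obtain ⟨N, a, z, hz, ha⟩ := Module.Flat.isTrivialRelation_of_sum_smul_eq_zero (R := A) (M := B)
    (f := ![f₀, f₁]) (x := ![x₀, x₁]) hrel
  refine ⟨N, a 0, a 1, z, ?_, ?_, fun j => ?_⟩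
  · simpa [hsm] using hz 0
  · simpa [hsm] using hz 1
  · simpa using ha j

/-- `rescale` as an algebra map -/
def rescaleHom (c : k) : PowerSeries k →ₐ[k] PowerSeries k :=
  { rescale c with
    commutes' := fun a => by
      show rescale c (algebraMap k (PowerSeries k) a) = algebraMap k (PowerSeries k) a
      ext n
      rw [coeff_rescale, PowerSeries.algebraMap_eq, coeff_C]
      split_ifs with h <;> simp [h] }

@[simp] theorem rescaleHom_apply (c : k) (f : PowerSeries k) : rescaleHom c f = rescale c f := rfl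

/-- `f(t) ↦ f(s)` for `s` without constant term -/
def subHom (s : PowerSeries k) (hs : constantCoeff s = 0) : PowerSeries k →ₐ[k] PowerSeries k :=
  substAlgHom (HasSubst.of_constantCoeff_zero' hs)

theorem subHom_X (s : PowerSeries k) (hs : constantCoeff s = 0) : subHom s hs X = s := by
  rw [subHom, coe_substAlgHom, subst_X (HasSubst.of_constantCoeff_zero' hs)]

/-- `f(t) ↦ f(t²)` -/
abbrev sqHom (k : Type u) [Field k] : PowerSeries k →ₐ[k] PowerSeries k :=
  subHom (X ^ 2) (by simp)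

theorem coeff_sqHom (f : PowerSeries k) (n : ℕ) :
    coeff n (sqHom k f) = if 2 ∣ n then coeff (n / 2) f else 0 := by
  rw [sqHom, subHom, coe_substAlgHom, coeff_subst_X_pow (by norm_num)]
  simp

@[simp] theorem constantCoeff_sqHom (p : PowerSeries k) : constantCoeff (sqHom k p) = constantCoeff p := by
  rw [← coeff_zero_eq_constantCoeff_apply, coeff_sqHom]
  simp

theorem sqHom_injective : Function.Injective (sqHom k) := by
  intro f g h
  ext n
  have := congrArg (coeff (2 * n)) h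
  simpa [coeff_sqHom] using this

theorem neg_eq_self (h2 : (2 : k) ≠ 0) {a : k} (h : -a = a) : a = 0 :=
  (mul_eq_zero.1 (by linear_combination -h : (2 : k) * a = 0)).resolve_left h2

/-- even series -/
theorem even_iff (h2 : (2 : k) ≠ 0) (f : PowerSeries k) :
    rescale (-1) f = f ↔ ∃ g, f = sqHom k g := by
  constructor
  · intro h
    refine ⟨mk fun n => coeff (2 * n) f, ?_⟩
    ext n
    rw [coeff_sqHom, coeff_mk]
    split_ifs with hn
    · rw [Nat.mul_div_cancel' hn]
    · have h' := congrArg (coeff n) h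
      rw [coeff_rescale, Odd.neg_one_pow (Nat.not_even_iff_odd.1 fun he => hn he.two_dvd), neg_one_mul] at h'
      exact neg_eq_self h2 h'
  · rintro ⟨g, rfl⟩
    ext n
    rw [coeff_rescale, coeff_sqHom]
    split_ifs with hn
    · rw [Even.neg_one_pow (even_iff_two_dvd.2 hn), one_mul]
    · rw [mul_zero]

/-- odd series -/
theorem odd_iff (h2 : (2 : k) ≠ 0) (f : PowerSeries k) :
    rescale (-1) f = -f ↔ ∃ g, f = X * sqHom k g := by
  constructor
  · intro h
    have h0 : constantCoeff f = 0 := by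
      have h' := congrArg (coeff 0) h
      rw [coeff_rescale, pow_zero, one_mul, map_neg] at h'
      simpa using neg_eq_self h2 h'.symm
    obtain ⟨f', rfl⟩ := X_dvd_iff.2 h0
    rw [map_mul, rescale_X, map_neg, map_one, neg_one_mul, neg_mul, neg_inj] at h
    obtain ⟨g, hg⟩ := (even_iff h2 f').1 (mul_left_cancel₀ X_ne_zero h)
    exact ⟨g, by rw [hg]⟩
  · rintro ⟨g, rfl⟩
    rw [map_mul, rescale_X, (even_iff h2 _).2 ⟨g, rfl⟩, map_neg, map_one, neg_one_mul, neg_mul]

/-- every series is `a(t²) + t b(t²)` -/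
theorem even_odd (f : PowerSeries k) : ∃ a b, f = sqHom k a + X * sqHom k b := by
  refine ⟨mk fun n => coeff (2 * n) f, mk fun n => coeff (2 * n + 1) f, ?_⟩
  ext n
  rcases n with - | n
  · simp [coeff_sqHom]
  · rw [map_add, coeff_succ_X_mul, coeff_sqHom, coeff_sqHom, coeff_mk, coeff_mk]
    by_cases h : 2 ∣ n
    · rw [if_neg (by omega), if_pos h, zero_add, Nat.mul_div_cancel' h]
    · rw [if_pos (by omega), if_neg h, add_zero, Nat.mul_div_cancel' (by omega)]

theorem even_odd_unique {a b : PowerSeries k} (h : sqHom k a + X * sqHom k b = 0) : a = 0 ∧ b = 0 := by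
  constructor
  · ext n
    rcases n with - | n
    · simpa [coeff_sqHom] using congrArg (coeff 0) h
    · have := congrArg (coeff (2 * n + 2)) h
      rw [map_add, show 2 * n + 2 = (2 * n + 1) + 1 by omega, coeff_succ_X_mul, coeff_sqHom,
        coeff_sqHom, if_pos (by omega), if_neg (by omega), add_zero] at this
      rw [map_zero]
      simpa [show (2 * n + 1 + 1) / 2 = n + 1 by omega] using this
  · ext n
    have := congrArg (coeff (2 * n + 1)) h
    rw [map_add, coeff_succ_X_mul, coeff_sqHom, coeff_sqHom, if_neg (by omega), if_pos (by omega),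
      zero_add] at this
    rw [map_zero]
    simpa using this

variable (σ : ArSing.ring k r ≃ₐ[k] ArSing.ring k r)

theorem sigma_ι_of_fix (hx : σ (ArSing.x k r) = ArSing.x k r) (p : PowerSeries k) :
    σ (ι k r p) = ι k r p := by
  have : σ.toAlgHom.comp (ι k r) = ι k r :=
    hom_ext (by simp only [AlgHom.comp_apply, AlgEquiv.coe_toAlgHom, ι_X, hx]) 1
      (by simp [ι_X, hx])
  exact DFunLike.congr_fun this p

theorem sigma_ι_of_neg (hx : σ (ArSing.x k r) = -ArSing.x k r) (p : PowerSeries k) :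
    σ (ι k r p) = ι k r (rescale (-1) p) := by
  have : σ.toAlgHom.comp (ι k r) = (ι k r).comp (rescaleHom (-1)) :=
    hom_ext (by simp [ι_X, hx, map_neg]) 1
      (by rw [pow_one]; simp only [AlgHom.comp_apply, AlgEquiv.coe_toAlgHom, ι_X, hx]
          exact dvd_neg.2 (dvd_refl (ArSing.x k r)))
  exact DFunLike.congr_fun this p

theorem phi_ι {m : ℕ} (φ : ArSing.ring k m →ₐ[k] ArSing.ring k r)
    (hφx : φ (ArSing.x k m) = ArSing.x k r ^ 2) (p : PowerSeries k) :
    φ (ι k m p) = ι k r (sqHom k p) := by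
  have : φ.comp (ι k m) = (ι k r).comp (sqHom k) :=
    hom_ext (by simp [ι_X, hφx, sqHom, subHom_X]) 1
      (by simp [ι_X, hφx, dvd_pow_self])
  exact DFunLike.congr_fun this p

theorem y_mem : ArSing.y k r ∈ IsLocalRing.maximalIdeal (ArSing.ring k r) := by
  rw [← nf_y, mem_maximalIdeal_nf]; simp

theorem x_mem : ArSing.x k r ∈ IsLocalRing.maximalIdeal (ArSing.ring k r) := by
  rw [← nf_x, mem_maximalIdeal_nf]; simp

theorem x_nonZeroDivisor : ArSing.x k r ∈ nonZeroDivisors (ArSing.ring k r) := by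
  rw [mem_nonZeroDivisors_iff_right]
  intro a ha
  obtain ⟨p, q, rfl⟩ := nf_exists a
  rw [← nf_x, nf_mul] at ha
  obtain ⟨h1, h2⟩ := nf_eq_zero ha
  have hp : p = 0 := (mul_eq_zero.1 (by linear_combination h1 : p * X = 0)).resolve_right X_ne_zero
  have hq : q = 0 := (mul_eq_zero.1 (by linear_combination h2 : q * X = 0)).resolve_right X_ne_zero
  simp [hp, hq, nf]

theorem y_nonZeroDivisor : ArSing.y k r ∈ nonZeroDivisors (ArSing.ring k r) := by
  rw [mem_nonZeroDivisors_iff_right]
  intro a ha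
  obtain ⟨p, q, rfl⟩ := nf_exists a
  rw [← nf_y, nf_mul] at ha
  obtain ⟨h1, h2⟩ := nf_eq_zero ha
  have hp : p = 0 := by linear_combination h2
  have hq : q = 0 :=
    (mul_eq_zero.1 (by linear_combination h1 : q * X ^ (r + 1) = 0)).resolve_right
      (pow_ne_zero _ X_ne_zero)
  simp [hp, hq, nf]

theorem C_two_inv (h2 : (2 : k) ≠ 0) : C (2⁻¹ : k) * 2 = (1 : PowerSeries k) := by
  rw [← map_ofNat (C : k →+* PowerSeries k) 2, ← map_mul, inv_mul_cancel₀ h2, map_one]

theorem two_isUnit (h2 : (2 : k) ≠ 0) : IsUnit (2 : ArSing.ring k r) := by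
  rw [← map_ofNat (algebraMap k (ArSing.ring k r)) 2]
  exact (isUnit_iff_ne_zero.2 h2).map _

/-- length of a quotient computed by coordinates -/
theorem length_quot (J : Ideal (ArSing.ring k r)) (n : ℕ) (L : ArSing.ring k r →ₗ[k] (Fin n → k))
    (hL : Function.Surjective L) (hker : ∀ a, L a = 0 ↔ a ∈ J) :
    Module.length (ArSing.ring k r) (ArSing.ring k r ⧸ J) = n := by
  refine length_eq _ n ?_
  have hk : (J : Submodule (ArSing.ring k r) (ArSing.ring k r)).restrictScalars k = LinearMap.ker L := by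
    ext a; simp [hker]
  exact (Submodule.Quotient.restrictScalarsEquiv k J).symm.trans
    ((Submodule.quotEquivOfEq _ _ hk).trans (L.quotKerEquivOfSurjective hL))

/-- coordinates of the normal form -/
def pCoord (r : ℕ) : ArSing.ring k r →ₗ[k] PowerSeries k × PowerSeries k :=
  (LinearEquiv.ofBijective
    ({ toFun := fun pq => nf r pq.1 pq.2
       map_add' := fun a b => (nf_add _ _ _ _).symm
       map_smul' := fun c a => (nf_smul c _ _).symm } :
      (PowerSeries k × PowerSeries k) →ₗ[k] ArSing.ring k r)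
    ⟨fun _ _ h => Prod.ext (nf_inj h).1 (nf_inj h).2,
      fun a => let ⟨p, q, h⟩ := nf_exists a; ⟨(p, q), h.symm⟩⟩).symm.toLinearMap

theorem pCoord_nf (p q : PowerSeries k) : pCoord r (nf r p q) = (p, q) := by
  rw [pCoord]
  exact LinearEquiv.symm_apply_eq _ |>.2 rfl

theorem length_mod_y :
    Module.length (ArSing.ring k r) (ArSing.ring k r ⧸ Ideal.span {ArSing.y k r}) = (r + 1 : ℕ) := by
  refine length_quot _ (r + 1)
    (LinearMap.pi fun i : Fin (r + 1) =>
      (coeff (R := k) (i : ℕ)).comp ((LinearMap.fst k _ _).comp (pCoord r))) ?_ ?_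
  · intro v
    refine ⟨nf r (mk fun i => if h : i < r + 1 then v ⟨i, h⟩ else 0) 0, ?_⟩
    ext i
    simp [pCoord_nf]
    intro h
    have := i.isLt
    omega
  · intro a
    obtain ⟨p, q, rfl⟩ := nf_exists a
    rw [Ideal.mem_span_singleton']
    constructor
    · intro h
      obtain ⟨c, hc⟩ : X ^ (r + 1) ∣ p := X_pow_dvd_iff.2 fun i hi => by
        simpa [pCoord_nf] using congrFun h ⟨i, hi⟩
      refine ⟨nf r q c, ?_⟩
      rw [← nf_y, nf_mul, hc]
      congr 1 <;> ring
    · rintro ⟨b, hb⟩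
      obtain ⟨p', q', rfl⟩ := nf_exists b
      rw [← nf_y, nf_mul] at hb
      obtain ⟨rfl, -⟩ := nf_inj hb
      ext i
      simp [pCoord_nf, coeff_mul_X_pow']
      intro h
      have := i.isLt
      omega

theorem length_mod_x :
    Module.length (ArSing.ring k r) (ArSing.ring k r ⧸ Ideal.span {ArSing.x k r}) = (2 : ℕ) := by
  refine length_quot _ 2
    (LinearMap.pi ![(coeff (R := k) 0).comp ((LinearMap.fst k _ _).comp (pCoord r)),
      (coeff (R := k) 0).comp ((LinearMap.snd k _ _).comp (pCoord r))]) ?_ ?_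
  · intro v
    refine ⟨nf r (C (v 0)) (C (v 1)), ?_⟩
    ext i
    fin_cases i <;> simp [pCoord_nf]
  · intro a
    obtain ⟨p, q, rfl⟩ := nf_exists a
    rw [Ideal.mem_span_singleton']
    constructor
    · intro h
      obtain ⟨p', hp⟩ : X ∣ p := X_dvd_iff.2 (by simpa [pCoord_nf] using congrFun h 0)
      obtain ⟨q', hq⟩ : X ∣ q := X_dvd_iff.2 (by simpa [pCoord_nf] using congrFun h 1)
      refine ⟨nf r p' q', ?_⟩
      rw [← nf_x, nf_mul]
      congr 1 <;> [rw [hp]; rw [hq]] <;> ring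
    · rintro ⟨b, hb⟩
      obtain ⟨p', q', rfl⟩ := nf_exists b
      rw [← nf_x, nf_mul] at hb
      obtain ⟨rfl, rfl⟩ := nf_inj hb
      ext i
      fin_cases i <;> simp [pCoord_nf]

theorem mem_span_xy (p q : PowerSeries k) (h : constantCoeff p = 0) :
    nf r p q ∈ Ideal.span {ArSing.x k r, ArSing.y k r} := by
  obtain ⟨p', rfl⟩ := X_dvd_iff.2 h
  rw [nf, map_mul, ι_X, Ideal.mem_span_pair]
  exact ⟨ι k r p', ι k r q, by ring⟩

theorem span_xy : Ideal.span {ArSing.x k r, ArSing.y k r} = IsLocalRing.maximalIdeal (ArSing.ring k r) := by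
  refine le_antisymm ?_ ?_
  · rw [Ideal.span_le]
    rintro a (rfl | rfl)
    exacts [x_mem, y_mem]
  · intro a ha
    obtain ⟨p, q, rfl⟩ := nf_exists a
    exact mem_span_xy p q ((mem_maximalIdeal_nf p q).1 ha)

theorem length_mod_xy :
    Module.length (ArSing.ring k r) (ArSing.ring k r ⧸ Ideal.span {ArSing.x k r, ArSing.y k r}) = 1 := by
  haveI : IsSimpleModule (ArSing.ring k r)
      (ArSing.ring k r ⧸ Ideal.span {ArSing.x k r, ArSing.y k r}) := by
    rw [isSimpleModule_iff_isCoatom, span_xy]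
    exact (IsLocalRing.maximalIdeal.isMaximal _).out
  exact Module.length_eq_one _ _

/-- criterion: the fixed ideal -/
theorem fixed_span_le {J : Ideal (ArSing.ring k r)} (h : ∀ a, σ a - a ∈ J) :
    Ideal.span (Set.range fun a => σ a - a) ≤ J := by
  rw [Ideal.span_le]; rintro _ ⟨a, rfl⟩; exact h a

/-- Case `(x,y) ↦ (x,-y)` -/
theorem case_y (h2 : (2 : k) ≠ 0)
    (hx : σ (ArSing.x k r) = ArSing.x k r) (hy : σ (ArSing.y k r) = -ArSing.y k r) :
    (∀ a : ArSing.ring k r, σ a = a ↔ a ∈ (ArSing.xMap k r).range) ∧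
    ((ArSing.xMap k r).toRingHom.Flat ∧
      Ideal.map (ArSing.xMap k r) (IsLocalRing.maximalIdeal (PowerSeries k)) ≠ ⊤) ∧
    (∃ g : ArSing.ring k r, g ∈ nonZeroDivisors (ArSing.ring k r) ∧
      Ideal.span (Set.range fun a : ArSing.ring k r => σ a - a) = Ideal.span {g}) ∧
    Module.length (ArSing.ring k r)
      (ArSing.ring k r ⧸ Ideal.span (Set.range fun a : ArSing.ring k r => σ a - a)) = r + 1 := by
  have hσ : ∀ p q, σ (nf r p q) = nf r p (-q) := fun p q => by
    simp only [nf, map_add, map_mul, sigma_ι_of_fix σ hx, hy, map_neg]; ring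
  have hspan : Ideal.span (Set.range fun a : ArSing.ring k r => σ a - a) =
      Ideal.span {ArSing.y k r} := by
    refine le_antisymm (fixed_span_le σ fun a => ?_) ?_
    · obtain ⟨p, q, rfl⟩ := nf_exists a
      rw [hσ, nf_sub, nf, sub_self, map_zero, zero_add]
      exact Ideal.mem_span_singleton'.2 ⟨_, rfl⟩
    · rw [Ideal.span_singleton_le_iff_mem]
      have h : σ (ArSing.y k r) - ArSing.y k r ∈
          Ideal.span (Set.range fun a : ArSing.ring k r => σ a - a) := Ideal.subset_span ⟨_, rfl⟩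
      rw [hy, show -ArSing.y k r - ArSing.y k r = (-2) * ArSing.y k r by ring] at h
      exact (Ideal.unit_mul_mem_iff_mem _ (two_isUnit h2).neg).1 h
  refine ⟨fun a => ?_, ⟨?_, ?_⟩, ⟨ArSing.y k r, y_nonZeroDivisor, hspan⟩, ?_⟩
  · obtain ⟨p, q, rfl⟩ := nf_exists a
    rw [hσ]
    constructor
    · intro h
      have hq := (nf_inj h).2
      have : q = 0 := by
        calc q = C (2⁻¹ : k) * 2 * q := by rw [C_two_inv h2, one_mul]
          _ = 0 := by linear_combination C (2⁻¹ : k) * (-hq)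
      exact ⟨p, by rw [this, nf_zero_right]; rfl⟩
    · rintro ⟨p', hp'⟩
      have : nf r p q = nf r p' 0 := by rw [nf_zero_right]; exact hp'.symm
      obtain ⟨-, rfl⟩ := nf_inj this
      rw [neg_zero]
  · letI := (ArSing.xMap k r).toRingHom.toAlgebra
    show Module.Flat (PowerSeries k) (ArSing.ring k r)
    have hsm : ∀ (c : PowerSeries k) (a : ArSing.ring k r), c • a = ι k r c * a := fun c a => rfl
    let f : (PowerSeries k × PowerSeries k) →ₗ[PowerSeries k] ArSing.ring k r :=
      { toFun := fun pq => nf r pq.1 pq.2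
        map_add' := fun a b => (nf_add _ _ _ _).symm
        map_smul' := fun c a => by
          show nf r (c * a.1) (c * a.2) = c • nf r a.1 a.2
          rw [hsm, ← nf_zero_right, nf_mul]; congr 1 <;> ring }
    have hb : Function.Bijective f :=
      ⟨fun _ _ h => Prod.ext (nf_inj h).1 (nf_inj h).2,
        fun a => let ⟨p, q, h⟩ := nf_exists a; ⟨(p, q), h.symm⟩⟩
    exact Module.Flat.of_linearEquiv (LinearEquiv.ofBijective f hb).symm
  · refine ne_top_of_le_ne_top (IsLocalRing.maximalIdeal.isMaximal (ArSing.ring k r)).ne_top ?_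
    rw [Ideal.map_le_iff_le_comap]
    intro p hp
    show ι k r p ∈ IsLocalRing.maximalIdeal _
    rw [← nf_zero_right, mem_maximalIdeal_nf]
    rw [PowerSeries.maximalIdeal_eq_span_X, Ideal.mem_span_singleton, X_dvd_iff] at hp
    exact hp
  · rw [hspan, length_mod_y]; push_cast; rfl

theorem map_maximal_ne_top {m : ℕ} (φ : ArSing.ring k m →ₐ[k] ArSing.ring k r)
    (hφ : ∀ p q, nf m p q ∈ IsLocalRing.maximalIdeal (ArSing.ring k m) →
      φ (nf m p q) ∈ IsLocalRing.maximalIdeal (ArSing.ring k r))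
    (I : Ideal (ArSing.ring k m)) (hI : I.IsMaximal) : Ideal.map φ I ≠ ⊤ := by
  refine ne_top_of_le_ne_top (IsLocalRing.maximalIdeal.isMaximal (ArSing.ring k r)).ne_top ?_
  rw [Ideal.map_le_iff_le_comap, IsLocalRing.eq_maximalIdeal hI]
  intro a ha
  obtain ⟨p, q, rfl⟩ := nf_exists a
  exact hφ p q ha

/-- Case `(x,y) ↦ (-x,y)` -/
theorem case_x {m : ℕ} (h2 : (2 : k) ≠ 0) (hr : r + 1 = 2 * (m + 1))
    (hx : σ (ArSing.x k r) = -ArSing.x k r) (hy : σ (ArSing.y k r) = ArSing.y k r)
    (φ : ArSing.ring k m →ₐ[k] ArSing.ring k r) (hφx : φ (ArSing.x k m) = ArSing.x k r ^ 2)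
    (hφy : φ (ArSing.y k m) = ArSing.y k r) :
    (∀ a : ArSing.ring k r, σ a = a ↔ a ∈ φ.range) ∧
    (φ.toRingHom.Flat ∧ ∀ I : Ideal (ArSing.ring k m), I.IsMaximal → Ideal.map φ I ≠ ⊤) ∧
    (∃ g : ArSing.ring k r, g ∈ nonZeroDivisors (ArSing.ring k r) ∧ Ideal.span (Set.range fun a : ArSing.ring k r => σ a - a) = Ideal.span {g}) ∧
    Module.length (ArSing.ring k r) (ArSing.ring k r ⧸ Ideal.span (Set.range fun a : ArSing.ring k r => σ a - a)) = 2 := by
  have hσ : ∀ p q, σ (nf r p q) = nf r (rescale (-1) p) (rescale (-1) q) := fun p q => by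
    simp only [nf, map_add, map_mul, sigma_ι_of_neg σ hx, hy]
  have hφ : ∀ p q, φ (nf m p q) = nf r (sqHom k p) (sqHom k q) := fun p q => by
    simp only [nf, map_add, map_mul, phi_ι φ hφx, hφy]
  have hspan : Ideal.span (Set.range fun a : ArSing.ring k r => σ a - a) =
      Ideal.span {ArSing.x k r} := by
    refine le_antisymm (fixed_span_le σ fun a => ?_) ?_
    · obtain ⟨p, q, rfl⟩ := nf_exists a
      rw [hσ, nf_sub]
      obtain ⟨p', hp⟩ : X ∣ rescale (-1) p - p := X_dvd_iff.2 (by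
        rw [map_sub, ← coeff_zero_eq_constantCoeff_apply, coeff_rescale]; simp)
      obtain ⟨q', hq⟩ : X ∣ rescale (-1) q - q := X_dvd_iff.2 (by
        rw [map_sub, ← coeff_zero_eq_constantCoeff_apply, coeff_rescale]; simp)
      refine Ideal.mem_span_singleton'.2 ⟨nf r p' q', ?_⟩
      rw [← nf_x, nf_mul, hp, hq]
      congr 1 <;> ring
    · rw [Ideal.span_singleton_le_iff_mem]
      have h : σ (ArSing.x k r) - ArSing.x k r ∈
          Ideal.span (Set.range fun a : ArSing.ring k r => σ a - a) := Ideal.subset_span ⟨_, rfl⟩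
      rw [hx, show -ArSing.x k r - ArSing.x k r = (-2) * ArSing.x k r by ring] at h
      exact (Ideal.unit_mul_mem_iff_mem _ (two_isUnit h2).neg).1 h
  refine ⟨fun a => ?_, ⟨?_, fun I hI => map_maximal_ne_top φ ?_ I hI⟩,
    ⟨ArSing.x k r, x_nonZeroDivisor, hspan⟩, ?_⟩
  · obtain ⟨p, q, rfl⟩ := nf_exists a
    rw [hσ]
    constructor
    · intro h
      obtain ⟨p', rfl⟩ := (even_iff h2 p).1 (nf_inj h).1
      obtain ⟨q', rfl⟩ := (even_iff h2 q).1 (nf_inj h).2
      exact ⟨nf m p' q', hφ p' q'⟩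
    · rintro ⟨b, hb⟩
      obtain ⟨p', q', rfl⟩ := nf_exists b
      have hb' : nf r (sqHom k p') (sqHom k q') = nf r p q := (hφ p' q').symm.trans hb
      obtain ⟨rfl, rfl⟩ := nf_inj hb'
      rw [(even_iff h2 _).2 ⟨p', rfl⟩, (even_iff h2 _).2 ⟨q', rfl⟩]
  · letI := φ.toRingHom.toAlgebra
    show Module.Flat (ArSing.ring k m) (ArSing.ring k r)
    have hsm : ∀ (c : ArSing.ring k m) (a : ArSing.ring k r), c • a = φ c * a := fun c a => rfl
    let f : (ArSing.ring k m × ArSing.ring k m) →ₗ[ArSing.ring k m] ArSing.ring k r :=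
      { toFun := fun ab => φ ab.1 + ArSing.x k r * φ ab.2
        map_add' := fun a b => by simp only [Prod.fst_add, Prod.snd_add, map_add]; ring
        map_smul' := fun c a => by
          show φ (c * a.1) + ArSing.x k r * φ (c * a.2) = c • _
          rw [hsm, map_mul, map_mul]; ring }
    have hf : ∀ p q p' q', f (nf m p q, nf m p' q') =
        nf r (sqHom k p + X * sqHom k p') (sqHom k q + X * sqHom k q') := fun p q p' q' => by
      show φ (nf m p q) + ArSing.x k r * φ (nf m p' q') = _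
      rw [hφ, hφ, ← nf_x, nf_mul, nf_add]
      congr 1 <;> ring
    have hb : Function.Bijective f := by
      refine ⟨(injective_iff_map_eq_zero f).2 ?_, fun a => ?_⟩
      · rintro ⟨a, b⟩ h
        obtain ⟨p, q, rfl⟩ := nf_exists a
        obtain ⟨p', q', rfl⟩ := nf_exists b
        rw [hf] at h
        obtain ⟨h1, h1'⟩ := nf_eq_zero h
        obtain ⟨rfl, rfl⟩ := even_odd_unique h1
        obtain ⟨rfl, rfl⟩ := even_odd_unique h1'
        simp [nf]
      · obtain ⟨p, q, rfl⟩ := nf_exists a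
        obtain ⟨a, b, rfl⟩ := even_odd p
        obtain ⟨c, d, rfl⟩ := even_odd q
        exact ⟨(nf m a c, nf m b d), hf _ _ _ _⟩
    exact Module.Flat.of_linearEquiv (LinearEquiv.ofBijective f hb).symm
  · intro p q h
    rw [mem_maximalIdeal_nf] at h
    rw [hφ, mem_maximalIdeal_nf, constantCoeff_sqHom, h]
  · rw [hspan, length_mod_x]; rfl

/-- linear part -/
def lin1 (r : ℕ) (a : ArSing.ring k r) : k := coeff 1 (pCoord r a).1
/-- linear part -/
def lin2 (r : ℕ) (a : ArSing.ring k r) : k := coeff 0 (pCoord r a).2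

theorem lin_mul (hr : 1 ≤ r) (a g : ArSing.ring k r)
    (hg : g ∈ IsLocalRing.maximalIdeal (ArSing.ring k r)) :
    lin1 r (a * g) = coeff 0 (pCoord r a).1 * lin1 r g ∧
      lin2 r (a * g) = coeff 0 (pCoord r a).1 * lin2 r g := by
  obtain ⟨p, q, rfl⟩ := nf_exists a
  obtain ⟨p', q', rfl⟩ := nf_exists g
  rw [mem_maximalIdeal_nf] at hg
  rw [nf_mul]
  simp only [lin1, lin2, pCoord_nf]
  constructor
  · rw [map_add, coeff_mul_X_pow', if_neg (by omega), add_zero, coeff_one_mul, hg]
    simp [coeff_zero_eq_constantCoeff_apply, mul_comm]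
  · simp [coeff_zero_eq_constantCoeff_apply, hg]

theorem not_principal_xy (hr : 1 ≤ r) (g : ArSing.ring k r) :
    Ideal.span {ArSing.x k r, ArSing.y k r} ≠ Ideal.span {g} := by
  intro h
  have hg : g ∈ IsLocalRing.maximalIdeal (ArSing.ring k r) := by
    rw [← span_xy, h]; exact Ideal.mem_span_singleton_self g
  obtain ⟨a, ha⟩ := Ideal.mem_span_singleton'.1
    (h ▸ Ideal.subset_span (Set.mem_insert _ _) : ArSing.x k r ∈ Ideal.span {g})
  obtain ⟨b, hb⟩ := Ideal.mem_span_singleton'.1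
    (h ▸ Ideal.subset_span (Set.mem_insert_of_mem _ rfl) : ArSing.y k r ∈ Ideal.span {g})
  have h1 := lin_mul hr a g hg
  have h2 := lin_mul hr b g hg
  rw [ha] at h1
  rw [hb] at h2
  simp only [lin1, lin2, ← nf_x, ← nf_y, pCoord_nf, coeff_one_X, map_zero, coeff_zero_one] at h1 h2
  have : (1 : k) * 1 = 0 := by
    calc (1 : k) * 1 = (coeff 0 (pCoord r a).1 * lin1 r g) * (coeff 0 (pCoord r b).1 * lin2 r g) := by
          unfold lin1 lin2; rw [← h1.1, ← h2.2]
      _ = (coeff 0 (pCoord r a).1 * lin2 r g) * (coeff 0 (pCoord r b).1 * lin1 r g) := by ring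
      _ = 0 := by unfold lin1 lin2; rw [← h1.2, ← h2.1]; ring
  simp at this

set_option maxHeartbeats 1000000 in
/-- Case `(x,y) ↦ (-x,-y)` -/
theorem case_xy {m : ℕ} (h2 : (2 : k) ≠ 0) (hm : 1 ≤ m) (hr : r + 1 = 2 * m)
    (hx : σ (ArSing.x k r) = -ArSing.x k r) (hy : σ (ArSing.y k r) = -ArSing.y k r)
    (φ : ArSing.ring k m →ₐ[k] ArSing.ring k r) (hφx : φ (ArSing.x k m) = ArSing.x k r ^ 2)
    (hφy : φ (ArSing.y k m) = ArSing.x k r * ArSing.y k r) :
    (∀ a : ArSing.ring k r, σ a = a ↔ a ∈ φ.range) ∧ Function.Injective φ ∧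
    ¬ φ.toRingHom.Flat ∧
    Module.length (ArSing.ring k r) (ArSing.ring k r ⧸ Ideal.span (Set.range fun a : ArSing.ring k r => σ a - a)) = 1 ∧
    ¬ (∃ g : ArSing.ring k r, g ∈ nonZeroDivisors (ArSing.ring k r) ∧ Ideal.span (Set.range fun a : ArSing.ring k r => σ a - a) = Ideal.span {g}) := by
  have hσ : ∀ p q, σ (nf r p q) = nf r (rescale (-1) p) (-rescale (-1) q) := fun p q => by
    simp only [nf, map_add, map_mul, sigma_ι_of_neg σ hx, hy, map_neg]; ring
  have hφ : ∀ p q, φ (nf m p q) = nf r (sqHom k p) (X * sqHom k q) := fun p q => by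
    simp only [nf, map_add, map_mul, phi_ι φ hφx, hφy, ι_X]; ring
  have hspan : Ideal.span (Set.range fun a : ArSing.ring k r => σ a - a) =
      Ideal.span {ArSing.x k r, ArSing.y k r} := by
    refine le_antisymm (fixed_span_le σ fun a => ?_) ?_
    · obtain ⟨p, q, rfl⟩ := nf_exists a
      rw [hσ, nf_sub]
      refine mem_span_xy _ _ ?_
      rw [map_sub, ← coeff_zero_eq_constantCoeff_apply, coeff_rescale]; simp
    · rw [Ideal.span_le]
      rintro a (rfl | rfl)
      · have h : σ (ArSing.x k r) - ArSing.x k r ∈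
            Ideal.span (Set.range fun a : ArSing.ring k r => σ a - a) := Ideal.subset_span ⟨_, rfl⟩
        rw [hx, show -ArSing.x k r - ArSing.x k r = (-2) * ArSing.x k r by ring] at h
        exact (Ideal.unit_mul_mem_iff_mem _ (two_isUnit h2).neg).1 h
      · have h : σ (ArSing.y k r) - ArSing.y k r ∈
            Ideal.span (Set.range fun a : ArSing.ring k r => σ a - a) := Ideal.subset_span ⟨_, rfl⟩
        rw [hy, show -ArSing.y k r - ArSing.y k r = (-2) * ArSing.y k r by ring] at h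
        exact (Ideal.unit_mul_mem_iff_mem _ (two_isUnit h2).neg).1 h
  refine ⟨fun a => ?_, (injective_iff_map_eq_zero φ).2 fun a ha => ?_, fun hflat => ?_, ?_, ?_⟩
  · obtain ⟨p, q, rfl⟩ := nf_exists a
    rw [hσ]
    constructor
    · intro h
      obtain ⟨p', rfl⟩ := (even_iff h2 p).1 (nf_inj h).1
      obtain ⟨q', rfl⟩ := (odd_iff h2 q).1 (by rw [← neg_inj, neg_neg]; exact (nf_inj h).2)
      exact ⟨nf m p' q', hφ p' q'⟩
    · rintro ⟨b, hb⟩
      obtain ⟨p', q', rfl⟩ := nf_exists b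
      have hb' : nf r (sqHom k p') (X * sqHom k q') = nf r p q := (hφ p' q').symm.trans hb
      obtain ⟨rfl, rfl⟩ := nf_inj hb'
      rw [(even_iff h2 _).2 ⟨p', rfl⟩, (odd_iff h2 _).2 ⟨q', rfl⟩, neg_neg]
  · obtain ⟨p, q, rfl⟩ := nf_exists a
    rw [hφ] at ha
    obtain ⟨h1, h1'⟩ := nf_eq_zero ha
    have hp : p = 0 := sqHom_injective (by rw [h1, map_zero])
    have hq : q = 0 := sqHom_injective (by rw [(mul_eq_zero.1 h1').resolve_left X_ne_zero, map_zero])
    simp [hp, hq, nf]
  · obtain ⟨N, a, b, z, hz0, -, ha⟩ := flat_pair φ.toRingHom hflat (ArSing.y k m) (-ArSing.x k m)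
      (ArSing.x k r) (ArSing.y k r) (by
        show φ (ArSing.y k m) * ArSing.x k r + φ (-ArSing.x k m) * ArSing.y k r = 0
        rw [map_neg, hφx, hφy]; ring)
    change ArSing.x k r = ∑ j, φ (a j) * z j at hz0
    have hmem : ∀ j, lin1 r (φ (a j) * z j) = 0 := by
      intro j
      have hj := ha j
      obtain ⟨p, q, hpq⟩ := nf_exists (a j)
      obtain ⟨p', q', hpq'⟩ := nf_exists (b j)
      rw [hpq, hpq', ← nf_x, ← nf_y, nf_neg, nf_mul, nf_mul, nf_add] at hj
      have h0 : constantCoeff p = 0 := by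
        simpa using congrArg constantCoeff (nf_eq_zero hj).2
      rw [hpq, hφ, mul_comm]
      obtain ⟨hmul, -⟩ := lin_mul (r := r) (by omega) (z j) (nf r (sqHom k p) (X * sqHom k q))
        (by rw [mem_maximalIdeal_nf, constantCoeff_sqHom, h0])
      rw [hmul]
      simp [lin1, pCoord_nf, coeff_sqHom]
    have h1 : lin1 r (ArSing.x k r) = 0 := by
      rw [hz0]
      simp only [lin1] at hmem ⊢
      rw [map_sum, Prod.fst_sum, map_sum]
      exact Finset.sum_eq_zero fun j _ => hmem j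
    rw [← nf_x] at h1
    simp [lin1, pCoord_nf] at h1
  · rw [hspan, length_mod_xy]
  · rintro ⟨g, -, hg⟩
    exact not_principal_xy (by omega) g (hspan.symm.trans hg)

end

end ArInv
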