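import Mathlib
import Groth.Agent.ArInv.Fixed

/-!
# Coordinates on `A_r`, `r ≥ 2`
-/

set_option autoImplicit false

universe u

namespace ArInv

open PowerSeries

variable {k : Type u} [Field k] {r : ℕ}

noncomputable section

local notation "R" => ArSing.ring k r

variable (r) in
/-- constant part -/
def cst : ArSing.ring k r →ₐ[k] k where
  toFun a := constantCoeff (pCoord r a).1
  map_one' := by
    rw [show (1 : R) = nf r 1 0 by rw [nf_zero_right, map_one], pCoord_nf]; simp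
  map_mul' a b := by
    obtain ⟨p, q, rfl⟩ := nf_exists a
    obtain ⟨p', q', rfl⟩ := nf_exists b
    simp [nf_mul, pCoord_nf, pow_succ]
  map_zero' := by simp
  map_add' a b := by simp
  commutes' c := by
    rw [← (ι k r).commutes, ← nf_zero_right, pCoord_nf]
    simp

theorem cst_nf (p q : PowerSeries k) : cst r (nf r p q) = constantCoeff p := by
  show constantCoeff (pCoord r (nf r p q)).1 = _
  rw [pCoord_nf]

theorem cst_x : cst r (ArSing.x k r) = 0 := by rw [← nf_x, cst_nf]; simp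

theorem cst_y : cst r (ArSing.y k r) = 0 := by rw [← nf_y, cst_nf]; simp

theorem mem_max_iff (a : R) : a ∈ IsLocalRing.maximalIdeal R ↔ cst r a = 0 := by
  obtain ⟨p, q, rfl⟩ := nf_exists a
  rw [mem_maximalIdeal_nf, cst_nf]

theorem isUnit_iff (a : R) : IsUnit a ↔ cst r a ≠ 0 := by
  obtain ⟨p, q, rfl⟩ := nf_exists a
  rw [isUnit_nf_iff, cst_nf]

theorem cst_algHom (φ : R →ₐ[k] R) (hφ : ∀ a, cst r a = 0 → cst r (φ a) = 0) (a : R) :
    cst r (φ a) = cst r a := by
  have := hφ (a - algebraMap k R (cst r a)) (by simp)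
  rw [map_sub, φ.commutes, map_sub, sub_eq_zero, AlgHom.commutes] at this
  simpa using this

theorem cst_algEquiv (σ : R ≃ₐ[k] R) (a : R) : cst r (σ a) = cst r a := by
  refine cst_algHom σ.toAlgHom (fun b hb => ?_) a
  by_contra h
  have := ((isUnit_iff _).2 h).map σ.symm
  simp only [AlgEquiv.coe_toAlgHom, AlgEquiv.symm_apply_apply] at this
  exact (isUnit_iff _).1 this hb

theorem lin1_add (a b : R) : lin1 r (a + b) = lin1 r a + lin1 r b := by simp [lin1]
theorem lin2_add (a b : R) : lin2 r (a + b) = lin2 r a + lin2 r b := by simp [lin2]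
theorem lin1_sub (a b : R) : lin1 r (a - b) = lin1 r a - lin1 r b := by simp [lin1]
theorem lin2_sub (a b : R) : lin2 r (a - b) = lin2 r a - lin2 r b := by simp [lin2]
theorem lin1_smul (c : k) (a : R) : lin1 r (c • a) = c * lin1 r a := by simp [lin1]
theorem lin2_smul (c : k) (a : R) : lin2 r (c • a) = c * lin2 r a := by simp [lin2]
theorem lin1_x : lin1 r (ArSing.x k r) = 1 := by rw [← nf_x]; simp [lin1, pCoord_nf]
theorem lin2_x : lin2 r (ArSing.x k r) = 0 := by rw [← nf_x]; simp [lin2, pCoord_nf]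
theorem lin1_y : lin1 r (ArSing.y k r) = 0 := by rw [← nf_y]; simp [lin1, pCoord_nf]
theorem lin2_y : lin2 r (ArSing.y k r) = 1 := by rw [← nf_y]; simp [lin2, pCoord_nf]
theorem lin1_algebraMap (c : k) : lin1 r (algebraMap k R c) = 0 := by
  rw [← (ι k r).commutes, ← nf_zero_right]; simp [lin1, pCoord_nf]
theorem lin2_algebraMap (c : k) : lin2 r (algebraMap k R c) = 0 := by
  rw [← (ι k r).commutes, ← nf_zero_right]; simp [lin2, pCoord_nf]

theorem lin1_mul (hr : 1 ≤ r) (a g : R) (hg : cst r g = 0) :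
    lin1 r (a * g) = cst r a * lin1 r g := by
  have := (lin_mul hr a g ((mem_max_iff g).2 hg)).1
  rwa [coeff_zero_eq_constantCoeff_apply] at this

theorem lin2_mul (hr : 1 ≤ r) (a g : R) (hg : cst r g = 0) :
    lin2 r (a * g) = cst r a * lin2 r g := by
  have := (lin_mul hr a g ((mem_max_iff g).2 hg)).2
  rwa [coeff_zero_eq_constantCoeff_apply] at this

theorem decomp (a : R) : ∃ P Q : R, a = algebraMap k R (cst r a) + ArSing.x k r * P + Q * ArSing.y k r := by
  obtain ⟨p, q, rfl⟩ := nf_exists a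
  obtain ⟨p', hp⟩ : X ∣ p - C (constantCoeff p) := X_dvd_iff.2 (by simp)
  refine ⟨ι k r p', ι k r q, ?_⟩
  rw [cst_nf, nf, sub_eq_iff_eq_add.1 hp, map_add, map_mul, ι_X, ← (ι k r).commutes,
    PowerSeries.algebraMap_eq, map_add, map_mul, constantCoeff_C, constantCoeff_X, zero_mul, zero_add]
  ring

theorem sq_dvd {g : R} (hg : cst r g = 0) : ArSing.x k r ∣ g ^ 2 := by
  obtain ⟨P, Q, h⟩ := decomp g
  rw [hg, map_zero, zero_add] at h
  have hy : ArSing.y k r * ArSing.y k r = ArSing.x k r ^ (r + 1) := by rw [y_sq, map_pow, ι_X]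
  refine ⟨ArSing.x k r * P ^ 2 + 2 * P * Q * ArSing.y k r + Q ^ 2 * ArSing.x k r ^ r, ?_⟩
  rw [h]
  linear_combination Q ^ 2 * hy

theorem exists_hom (X₀ : R) (h : cst r X₀ = 0) :
    ∃ ψ : PowerSeries k →ₐ[k] R, ψ X = X₀ := by
  obtain ⟨f, rfl⟩ := Ideal.Quotient.mk_surjective X₀
  have hf : MvPowerSeries.constantCoeff f = 0 := by
    by_contra hne
    exact (isUnit_iff _).1 ((MvPowerSeries.isUnit_iff_constantCoeff.2
      (isUnit_iff_ne_zero.2 hne)).map (Ideal.Quotient.mk (Ideal.span {ArSing.eqn k r}))) h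
  refine ⟨(Ideal.Quotient.mkₐ k _).comp (substAlgHom (HasSubst.of_constantCoeff_zero hf)), ?_⟩
  rw [AlgHom.comp_apply, coe_substAlgHom, subst_X (HasSubst.of_constantCoeff_zero hf)]
  rfl

theorem hom_ext' {ψ χ : PowerSeries k →ₐ[k] R} (h : ψ X = χ X) (hc : cst r (ψ X) = 0) : ψ = χ :=
  hom_ext h 2 (sq_dvd hc)

theorem cst_hom (ψ : PowerSeries k →ₐ[k] R) (hc : cst r (ψ X) = 0) (f : PowerSeries k) :
    cst r (ψ f) = constantCoeff f := by
  obtain ⟨f', hf⟩ : X ∣ f - C (constantCoeff f) := X_dvd_iff.2 (by simp)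
  conv_lhs => rw [sub_eq_iff_eq_add.1 hf]
  rw [map_add ψ, map_mul ψ, ← PowerSeries.algebraMap_eq, ψ.commutes, map_add, map_mul, hc,
    zero_mul, zero_add, AlgHom.commutes]
  rfl

theorem conj_nf (p q : PowerSeries k) :
    nf r p q * nf r p (-q) = ι k r (p * p - q * q * X ^ (r + 1)) := by
  rw [nf_mul, ← nf_zero_right]
  congr 1 <;> ring

theorem coord_nonZeroDivisor (hr : 2 ≤ r) {X₀ : R} (h0 : cst r X₀ = 0) (h1 : lin1 r X₀ ≠ 0) :
    X₀ ∈ nonZeroDivisors R := by
  rw [mem_nonZeroDivisors_iff_right]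
  intro a ha
  obtain ⟨p, q, rfl⟩ := nf_exists X₀
  obtain ⟨p', q', rfl⟩ := nf_exists a
  set N := p * p - q * q * X ^ (r + 1)
  have hN : N ≠ 0 := by
    intro h
    have := congrArg (coeff 2) h
    rw [cst_nf] at h0
    obtain ⟨p₁, rfl⟩ := X_dvd_iff.2 h0
    simp only [lin1, pCoord_nf, coeff_succ_X_mul] at h1
    simp only [N, map_sub, map_zero, coeff_mul_X_pow', if_neg (show ¬ r + 1 ≤ 2 by omega),
      sub_zero] at this
    rw [show X * p₁ * (X * p₁) = X ^ 2 * (p₁ * p₁) by ring, coeff_X_pow_mul'] at this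
    simp at this h1
    exact h1 this
  have h' : nf r p' q' * ι k r N = 0 := by
    rw [← conj_nf, ← mul_assoc, ha, zero_mul]
  rw [← nf_zero_right, nf_mul] at h'
  obtain ⟨e1, e2⟩ := nf_eq_zero h'
  have hp : p' = 0 := (mul_eq_zero.1 (by linear_combination e1 : p' * N = 0)).resolve_right hN
  have hq : q' = 0 := (mul_eq_zero.1 (by linear_combination e2 : q' * N = 0)).resolve_right hN
  simp [hp, hq, nf]

theorem coord_reduction (hr : 2 ≤ r) {X₀ Y₀ : R} (hX : cst r X₀ = 0) (hY : cst r Y₀ = 0)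
    (hX1 : lin1 r X₀ ≠ 0) (hdet : lin1 r X₀ * lin2 r Y₀ - lin2 r X₀ * lin1 r Y₀ ≠ 0) (z : R) :
    ∃ (c d : k) (z' : R), z = algebraMap k R c + algebraMap k R d * Y₀ + X₀ * z' := by
  set J : Ideal R := Ideal.span {X₀} with hJ
  obtain ⟨P, Q, hPQ⟩ := decomp X₀
  rw [hX, map_zero, zero_add] at hPQ
  have hP : IsUnit P := by
    rw [isUnit_iff]
    intro h
    have e := congrArg (lin1 r) hPQ
    rw [lin1_add, mul_comm, lin1_mul (by omega) _ _ cst_x, lin1_mul (by omega) _ _ cst_y, h,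
      lin1_y, zero_mul, mul_zero, add_zero] at e
    exact hX1 e
  obtain ⟨P', hP'⟩ := hP.exists_right_inv
  set W := Q * P'
  have hx : ArSing.x k r + ArSing.y k r * W ∈ J :=
    Ideal.mem_span_singleton'.2 ⟨P', by rw [hPQ]; linear_combination (ArSing.x k r) * hP'⟩
  have hy2 : ArSing.y k r * ArSing.y k r = ArSing.x k r ^ (r + 1) := by rw [y_sq, map_pow, ι_X]
  have hxy : ArSing.x k r * ArSing.y k r ∈ J := by
    obtain ⟨s, rfl⟩ : ∃ s, r = s + 2 := ⟨r - 2, by omega⟩
    have hu : IsUnit (1 - ArSing.x k (s + 2) ^ (s + 1) * (W * W)) := by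
      rw [isUnit_iff]; simp [cst_x]
    refine (Ideal.unit_mul_mem_iff_mem _ hu).1 ?_
    have h3 : ArSing.x k (s + 2) * ArSing.y k (s + 2) + ArSing.x k (s + 2) ^ (s + 3) * W ∈ J := by
      have := J.mul_mem_left (ArSing.y k (s + 2)) hx
      rw [mul_add, ← mul_assoc, hy2] at this
      convert this using 1; ring
    have h4 : ArSing.x k (s + 2) ^ (s + 3) * W +
        ArSing.x k (s + 2) ^ (s + 1) * (W * W) * (ArSing.x k (s + 2) * ArSing.y k (s + 2)) ∈ J := by
      have := J.mul_mem_left (ArSing.x k (s + 2) ^ (s + 2) * W) hx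
      convert this using 1; ring
    convert sub_mem h3 h4 using 1
    ring
  have hyy : ArSing.y k r * ArSing.y k r ∈ J := by
    obtain ⟨s, rfl⟩ : ∃ s, r = s + 1 := ⟨r - 1, by omega⟩
    have h5 := J.mul_mem_left (ArSing.x k (s + 1) ^ (s + 1)) hx
    have h6 := J.mul_mem_left (ArSing.x k (s + 1) ^ s * W) hxy
    rw [hy2]
    convert sub_mem h5 h6 using 1
    ring
  have hxx : ArSing.x k r * ArSing.x k r ∈ J := by
    have h5 := J.mul_mem_left (ArSing.x k r) hx
    have h6 := J.mul_mem_left W hxy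
    convert sub_mem h5 h6 using 1
    ring
  have key : ∀ z : R, ∃ c d : k, z - algebraMap k R c - algebraMap k R d * ArSing.y k r ∈ J := by
    intro z
    obtain ⟨A, B, hz⟩ := decomp z
    set S := B - A * W
    obtain ⟨A', B', hS⟩ := decomp S
    refine ⟨cst r z, cst r S, ?_⟩
    have : z - algebraMap k R (cst r z) - algebraMap k R (cst r S) * ArSing.y k r =
        A * (ArSing.x k r + ArSing.y k r * W) + A' * (ArSing.x k r * ArSing.y k r) +
          B' * (ArSing.y k r * ArSing.y k r) := by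
      conv_lhs => enter [1, 1]; rw [hz]
      linear_combination (ArSing.y k r) * hS
    rw [this]
    exact add_mem (add_mem (J.mul_mem_left _ hx) (J.mul_mem_left _ hxy)) (J.mul_mem_left _ hyy)
  obtain ⟨c₀, d₀, hd⟩ := key Y₀
  obtain ⟨w, hw⟩ := Ideal.mem_span_singleton'.1 hd
  have hd0 : d₀ ≠ 0 := by
    intro h
    rw [h, map_zero, zero_mul, sub_zero] at hw
    have hc0 : c₀ = 0 := by simpa [hX, hY] using congrArg (cst r) hw
    rw [hc0, map_zero, sub_zero] at hw
    apply hdet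
    rw [← hw, lin1_mul (by omega) _ _ hX, lin2_mul (by omega) _ _ hX]
    ring
  obtain ⟨c, d, hz⟩ := key z
  obtain ⟨w', hw'⟩ := Ideal.mem_span_singleton'.1 hz
  refine ⟨c - d / d₀ * c₀, d / d₀, w' - algebraMap k R (d / d₀) * w, ?_⟩
  have hdd : algebraMap k R (d / d₀) * algebraMap k R d₀ = algebraMap k R d := by
    rw [← map_mul, div_mul_cancel₀ d hd0]
  rw [map_sub, map_mul]
  linear_combination -hw' + algebraMap k R (d / d₀) * hw - (ArSing.y k r) * hdd

/-- successive approximation, over an abstract ring -/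
theorem surjective_of_reduction {S : Type u} [CommRing S] [Algebra k S]
    (ψ : PowerSeries k →ₐ[k] S) (Y₀ : S)
    (hred : ∀ z, ∃ (c d : k) (z' : S), z = algebraMap k S c + algebraMap k S d * Y₀ + ψ X * z')
    (hsep : ∀ a : S, (∀ n, ψ X ^ n ∣ a) → a = 0) :
    Function.Surjective (fun AB : PowerSeries k × PowerSeries k => ψ AB.1 + ψ AB.2 * Y₀) := by
  intro z
  have hψC : ∀ c, ψ (C c) = algebraMap k S c := fun c => by
    rw [← PowerSeries.algebraMap_eq, ψ.commutes]
  choose c d nxt hnxt using hred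
  let it : ℕ → S := fun n => nxt^[n] z
  let sA : ℕ → PowerSeries k := fun n => mk fun i => c (it (n + i))
  let sB : ℕ → PowerSeries k := fun n => mk fun i => d (it (n + i))
  have hrec : ∀ (f : ℕ → k) (n : ℕ), (mk fun i => f (n + i) : PowerSeries k) =
      C (f n) + X * mk fun i => f (n + 1 + i) := by
    intro f n
    ext i
    rcases i with - | i
    · simp
    · rw [map_add, coeff_succ_X_mul, coeff_C, if_neg (Nat.succ_ne_zero i), zero_add, coeff_mk,
        coeff_mk, add_assoc, add_comm 1 i]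
  have hstep : ∀ n, it n - (ψ (sA n) + ψ (sB n) * Y₀) =
      (ψ X) * (it (n + 1) - (ψ (sA (n + 1)) + ψ (sB (n + 1)) * Y₀)) := by
    intro n
    have hit : it (n + 1) = nxt (it n) := Function.iterate_succ_apply' nxt n z
    have hA : sA n = C (c (it n)) + X * sA (n + 1) := hrec (fun i => c (it i)) n
    have hB : sB n = C (d (it n)) + X * sB (n + 1) := hrec (fun i => d (it i)) n
    rw [hA, hB, map_add ψ, map_add ψ, map_mul ψ, map_mul ψ, hψC, hψC, hit]
    linear_combination hnxt (it n)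
  have hpow : ∀ n, (ψ X) ^ n ∣ z - (ψ (sA 0) + ψ (sB 0) * Y₀) := by
    intro n
    have : z - (ψ (sA 0) + ψ (sB 0) * Y₀) = (ψ X) ^ n * (it n - (ψ (sA n) + ψ (sB n) * Y₀)) := by
      induction n with
      | zero => simp [it]
      | succ n ih => rw [ih, hstep n]; ring
    exact ⟨_, this⟩
  exact ⟨(sA 0, sB 0), (sub_eq_zero.1 (hsep _ hpow)).symm⟩

theorem nzd_cancel {S : Type u} [CommRing S] {x a : S} (hx : x ∈ nonZeroDivisors S) (h : a * x = 0) :
    a = 0 := (mul_right_mem_nonZeroDivisors_eq_zero_iff hx).1 h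

theorem exists_split (A : PowerSeries k) : ∃ A', A = C (constantCoeff A) + X * A' ∧
    ∀ n, coeff n A' = coeff (n + 1) A := by
  refine ⟨mk fun i => coeff (i + 1) A, ?_, fun n => coeff_mk _ _⟩
  ext n
  rcases n with - | n
  · simp
  · rw [map_add, coeff_succ_X_mul, coeff_C, if_neg (Nat.succ_ne_zero n), zero_add, coeff_mk]

theorem coord_indep (hr : 2 ≤ r) {X₀ Y₀ : R} (ψ : PowerSeries k →ₐ[k] R) (hψ : ψ X = X₀)
    (hX : cst r X₀ = 0) (hY : cst r Y₀ = 0)
    (hdet : lin1 r X₀ * lin2 r Y₀ - lin2 r X₀ * lin1 r Y₀ ≠ 0)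
    (A B : PowerSeries k) (h : ψ A + ψ B * Y₀ = 0) : constantCoeff A = 0 ∧ constantCoeff B = 0 := by
  have hsplit := exists_split (k := k)
  have hψC : ∀ c, ψ (C c) = algebraMap k R c := fun c => by
    rw [← PowerSeries.algebraMap_eq, ψ.commutes]
  obtain ⟨A', hA, -⟩ := hsplit A
  obtain ⟨B', hB, -⟩ := hsplit B
  rw [hA, hB, map_add ψ, map_add ψ, map_mul ψ, map_mul ψ, hψ, hψC, hψC] at h
  have e0 : constantCoeff A = 0 := by
    simpa [hX, hY] using congrArg (cst r) h
  rw [e0, map_zero, zero_add] at h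
  have e1 := congrArg (lin1 r) h
  have e2 := congrArg (lin2 r) h
  rw [show X₀ * ψ A' + (algebraMap k R (constantCoeff B) + X₀ * ψ B') * Y₀ =
    (ψ A' + ψ B' * Y₀) * X₀ + algebraMap k R (constantCoeff B) * Y₀ by ring] at e1 e2
  rw [lin1_add, lin1_mul (by omega) _ _ hX, lin1_mul (by omega) _ _ hY] at e1
  rw [lin2_add, lin2_mul (by omega) _ _ hX, lin2_mul (by omega) _ _ hY] at e2
  simp only [AlgHom.commutes, Algebra.algebraMap_self, RingHom.id_apply, lin1, lin2,
    map_zero, Prod.fst_zero, Prod.snd_zero] at e1 e2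
  refine ⟨e0, (mul_eq_zero.1 (?_ : constantCoeff B *
    (lin1 r X₀ * lin2 r Y₀ - lin2 r X₀ * lin1 r Y₀) = 0)).resolve_right hdet⟩
  unfold lin1 lin2
  linear_combination (coeff 1 (pCoord r X₀).1) * e2 - (coeff 0 (pCoord r X₀).2) * e1

set_option maxHeartbeats 800000 in
/-- `R` is free over `k[[X₀]]` on `1, Y₀` -/
theorem coord_bijective (hr : 2 ≤ r) {X₀ Y₀ : R} (ψ : PowerSeries k →ₐ[k] R) (hψ : ψ X = X₀)
    (hX : cst r X₀ = 0) (hY : cst r Y₀ = 0)
    (hX1 : lin1 r X₀ ≠ 0) (hdet : lin1 r X₀ * lin2 r Y₀ - lin2 r X₀ * lin1 r Y₀ ≠ 0) :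
    Function.Bijective (fun AB : PowerSeries k × PowerSeries k => ψ AB.1 + ψ AB.2 * Y₀) := by
  have hsplit := exists_split (k := k)
  have hψC : ∀ c, ψ (C c) = algebraMap k R c := fun c => by
    rw [← PowerSeries.algebraMap_eq, ψ.commutes]
  constructor
  · have key : ∀ n A B, ψ A + ψ B * Y₀ = 0 → coeff n A = 0 ∧ coeff n B = 0 := by
      intro n
      induction n with
      | zero =>
        intro A B h
        rw [coeff_zero_eq_constantCoeff_apply, coeff_zero_eq_constantCoeff_apply]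
        exact coord_indep hr ψ hψ hX hY hdet A B h
      | succ n ih =>
        intro A B h
        obtain ⟨A', hA, hA'⟩ := hsplit A
        obtain ⟨B', hB, hB'⟩ := hsplit B
        obtain ⟨hA0, hB0⟩ := coord_indep hr ψ hψ hX hY hdet A B h
        rw [hA, hB, hA0, hB0, map_zero (C : k →+* PowerSeries k), zero_add, zero_add, map_mul ψ,
          map_mul ψ, hψ] at h
        have h' : ψ A' + ψ B' * Y₀ = 0 :=
          nzd_cancel (x := X₀) (a := ψ A' + ψ B' * Y₀) (coord_nonZeroDivisor hr hX hX1)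
            (by rw [add_mul, mul_comm (ψ A') X₀, mul_right_comm, mul_comm (ψ B') X₀]; exact h)
        obtain ⟨h1, h2⟩ := ih A' B' h'
        exact ⟨hA' n ▸ h1, hB' n ▸ h2⟩
    rintro ⟨A, B⟩ ⟨A', B'⟩ h
    have h' : ψ (A - A') + ψ (B - B') * Y₀ = 0 := by
      rw [map_sub ψ, map_sub ψ, sub_mul, sub_add_sub_comm]
      exact sub_eq_zero.2 h
    refine Prod.ext ?_ ?_ <;> ext n
    · have := (key n _ _ h').1; rwa [map_sub, sub_eq_zero] at this
    · have := (key n _ _ h').2; rwa [map_sub, sub_eq_zero] at this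
  · exact surjective_of_reduction ψ Y₀ (fun z => by
      obtain ⟨c, d, z', hz⟩ := coord_reduction hr hX hY hX1 hdet z
      exact ⟨c, d, z', by rw [hψ]; exact hz⟩)
      (fun a ha => eq_zero_of_forall_dvd _ fun n => by
        refine dvd_trans (pow_dvd_pow_of_dvd (sq_dvd hX) n) ?_
        rw [← pow_mul, ← hψ]
        exact ha (2 * n))

end

end ArInv
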