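import Mathlib
import Groth.Agent.ArInv.Coord

/-!
# Linearisation of involutions of `A_r`, `r ≥ 2`
-/

set_option autoImplicit false

universe u

namespace ArInv

open PowerSeries

variable {k : Type u} [Field k] {r : ℕ}

noncomputable section

local notation "R" => ArSing.ring k r

/-- an `n`-th root of an invariant unit, invariant under `t ↦ α t` -/
theorem exists_root [IsAlgClosed k] (n : ℕ) (hn : (n : k) ≠ 0) (u : PowerSeries k)
    (hu : constantCoeff u ≠ 0) (α : k) (hinv : rescale α u = u) :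
    ∃ w : PowerSeries k, w ^ n = u ∧ constantCoeff w ≠ 0 ∧ rescale α w = w := by
  have hn0 : n ≠ 0 := fun h => hn (by simp [h])
  obtain ⟨c, hc⟩ := IsAlgClosed.exists_pow_nat_eq (constantCoeff u) (Nat.pos_of_ne_zero hn0)
  have hc0 : c ≠ 0 := fun h => hu (by rw [← hc, h, zero_pow hn0])
  haveI : HenselianRing (PowerSeries k) (Ideal.span {(X : PowerSeries k)}) := inferInstance
  set f : Polynomial (PowerSeries k) := Polynomial.X ^ n - Polynomial.C u
  have hd : constantCoeff (f.derivative.eval (C c)) = (n : k) * c ^ (n - 1) := by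
    simp [f, Polynomial.derivative_X_pow]
  obtain ⟨w, hw, hw'⟩ := HenselianRing.is_henselian
    (I := Ideal.span {(X : PowerSeries k)}) f (Polynomial.monic_X_pow_sub_C _ hn0) (C c)
    (by rw [Ideal.mem_span_singleton, X_dvd_iff]; simp [f, hc])
    ((isUnit_iff_constantCoeff.2 (isUnit_iff_ne_zero.2
      (by rw [hd]; exact mul_ne_zero hn (pow_ne_zero _ hc0)))).map _)
  have hwn : w ^ n = u := by
    have h' : f.eval w = 0 := hw
    simpa [f, sub_eq_zero] using h'
  have hwc : constantCoeff w = c := by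
    rw [Ideal.mem_span_singleton, X_dvd_iff, map_sub, constantCoeff_C, sub_eq_zero] at hw'
    exact hw'
  refine ⟨w, hwn, hwc ▸ hc0, ?_⟩
  have hrc : constantCoeff (rescale α w) = c := by
    rw [← coeff_zero_eq_constantCoeff_apply, coeff_rescale, pow_zero, one_mul,
      coeff_zero_eq_constantCoeff_apply, hwc]
  have h : rescale α w ^ n = w ^ n := by rw [← map_pow, hwn, hinv]
  have hS : IsUnit (∑ i ∈ Finset.range n, rescale α w ^ i * w ^ (n - 1 - i)) := by
    rw [isUnit_iff_constantCoeff, isUnit_iff_ne_zero, map_sum]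
    simp only [map_mul, map_pow, hrc, hwc]
    rw [Finset.sum_congr rfl (fun i hi => by
      rw [← pow_add, show i + (n - 1 - i) = n - 1 by have := Finset.mem_range.1 hi; omega]),
      Finset.sum_const, Finset.card_range, nsmul_eq_mul]
    exact mul_ne_zero hn (pow_ne_zero _ hc0)
  have h2 := geom_sum₂_mul (rescale α w) w n
  rw [h, sub_self] at h2
  exact sub_eq_zero.1 (hS.mul_right_eq_zero.1 h2)

theorem exists_eq_pow_mul {D : PowerSeries k} (hD : D ≠ 0) :
    ∃ (n : ℕ) (u : PowerSeries k), D = X ^ n * u ∧ constantCoeff u ≠ 0 := by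
  refine ⟨D.order.toNat, divXPowOrder D, (X_pow_order_mul_divXPowOrder).symm, ?_⟩
  rw [constantCoeff_divXPowOrder]
  exact coeff_order hD

theorem cst_eq_coeff (a : R) : cst r a = coeff 0 (pCoord r a).1 := by
  rw [coeff_zero_eq_constantCoeff_apply]; rfl

theorem quad (hr : 2 ≤ r) {g g' : R} (hg : cst r g = 0) (hg' : cst r g' = 0) :
    coeff 2 (pCoord r (g * g')).1 = lin1 r g * lin1 r g' := by
  obtain ⟨p, q, rfl⟩ := nf_exists g
  obtain ⟨p', q', rfl⟩ := nf_exists g'
  rw [cst_nf] at hg hg'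
  obtain ⟨p₁, rfl⟩ := X_dvd_iff.2 hg
  obtain ⟨p₁', rfl⟩ := X_dvd_iff.2 hg'
  simp only [nf_mul, pCoord_nf, lin1, coeff_succ_X_mul]
  rw [map_add, coeff_mul_X_pow', if_neg (by omega), add_zero,
    show X * p₁ * (X * p₁') = X ^ 2 * (p₁ * p₁') by ring, coeff_X_pow_mul']
  simp

/-- `X₀^n` has order `n` -/
theorem coord_pow (hr : 2 ≤ r) {X₀ : R} (hX : cst r X₀ = 0) :
    ∀ n : ℕ, ∃ P Q : PowerSeries k, X₀ ^ n = nf r (X ^ n * P) Q ∧
      constantCoeff P = lin1 r X₀ ^ n ∧ X ^ (n - 1) ∣ Q := by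
  obtain ⟨p, q, rfl⟩ := nf_exists X₀
  rw [cst_nf] at hX
  obtain ⟨p₁, rfl⟩ := X_dvd_iff.2 hX
  have hl : lin1 r (nf r (X * p₁) q) = constantCoeff p₁ := by
    simp [lin1, pCoord_nf, coeff_succ_X_mul]
  rw [hl]
  intro n
  induction n with
  | zero => exact ⟨1, 0, by rw [pow_zero, pow_zero, one_mul, nf_zero_right, map_one], by simp, by simp⟩
  | succ n ih =>
    obtain ⟨P, Q, h, hP, Q', rfl⟩ := ih
    obtain ⟨r', rfl⟩ : ∃ r', r = r' + 2 := ⟨r - 2, by omega⟩
    rcases n with - | m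
    · exact ⟨p₁, q, by rw [pow_one, pow_one], by simp, by simp⟩
    refine ⟨P * p₁ + X * (X ^ r' * (Q' * q)), X ^ (m + 1) * (P * q + Q' * p₁), ?_, ?_, ?_⟩
    · rw [pow_succ, h, nf_mul, Nat.add_sub_cancel]
      congr 1 <;> ring
    · simp [hP, pow_succ]
    · simp

theorem case_class [IsAlgClosed k] (hr : 2 ≤ r) (h2 : (2 : k) ≠ 0) (hn : ((r + 1 : ℕ) : k) ≠ 0)
    (σ : R ≃ₐ[k] R) (hσ : ∀ a, σ (σ a) = a) (hne : σ ≠ AlgEquiv.refl) :
    ∃ (α β : k) (φ : R ≃ₐ[k] R),
      (α = 1 ∨ α = -1) ∧ (β = 1 ∨ β = -1) ∧ (α = -1 → Odd r) ∧ ¬ (α = 1 ∧ β = 1) ∧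
      φ.symm (σ (φ (ArSing.x k r))) = α • ArSing.x k r ∧
      φ.symm (σ (φ (ArSing.y k r))) = β • ArSing.y k r := by
  set sx := σ (ArSing.x k r) with hsx
  set sy := σ (ArSing.y k r) with hsy
  have csx : cst r sx = 0 := by rw [hsx, cst_algEquiv, cst_x]
  have csy : cst r sy = 0 := by rw [hsy, cst_algEquiv, cst_y]
  have hy2 : ArSing.y k r * ArSing.y k r = ArSing.x k r ^ (r + 1) := by rw [y_sq, map_pow, ι_X]
  -- linear part of `σ`
  have hl1y : lin1 r sy = 0 := by
    have h : sy * sy = sx ^ r * sx := by rw [← pow_succ, hsy, hsx, ← map_mul, ← map_pow, hy2]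
    have e : coeff 2 (pCoord r (sy * sy)).1 = coeff 2 (pCoord r (sx ^ r * sx)).1 :=
      congrArg (fun a => coeff 2 (pCoord r a).1) h
    have hpr : cst r (sx ^ r) = 0 := by rw [map_pow, csx, zero_pow (by omega)]
    rw [quad hr csy csy, quad hr hpr csx] at e
    have hz : lin1 r (sx ^ r) = 0 := by
      obtain ⟨r', rfl⟩ : ∃ r', r = r' + 2 := ⟨r - 2, by omega⟩
      rw [pow_succ, lin1_mul (by omega) _ _ csx, map_pow, csx, zero_pow (by omega), zero_mul]
    rw [hz, zero_mul] at e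
    exact mul_self_eq_zero.1 e
  set α := lin1 r sx with hα
  set β := lin2 r sy with hβ
  set γ := lin2 r sx with hγ
  have hlin : ∀ a, cst r a = 0 → lin1 r (σ a) = lin1 r a * α ∧
      lin2 r (σ a) = lin1 r a * γ + lin2 r a * β := by
    intro a ha
    obtain ⟨P, Q, hPQ⟩ := decomp a
    rw [ha, map_zero, zero_add, mul_comm (ArSing.x k r) P] at hPQ
    have e1 : σ a = σ P * sx + σ Q * sy := by rw [hPQ, map_add, map_mul, map_mul]
    have ea1 := congrArg (lin1 r) hPQ
    have ea2 := congrArg (lin2 r) hPQ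
    rw [lin1_add, lin1_mul (by omega) _ _ cst_x, lin1_mul (by omega) _ _ cst_y, lin1_x, lin1_y,
      mul_one, mul_zero, add_zero] at ea1
    rw [lin2_add, lin2_mul (by omega) _ _ cst_x, lin2_mul (by omega) _ _ cst_y, lin2_x, lin2_y,
      mul_one, mul_zero, zero_add] at ea2
    constructor
    · rw [e1, lin1_add, lin1_mul (by omega) _ _ csx, lin1_mul (by omega) _ _ csy, hl1y, cst_algEquiv,
        mul_zero, add_zero, ea1]
    · rw [e1, lin2_add, lin2_mul (by omega) _ _ csx, lin2_mul (by omega) _ _ csy, cst_algEquiv,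
        cst_algEquiv, ea1, ea2]
  have hα2 : α * α = 1 := by
    have := (hlin sx csx).1
    rw [hsx, hσ, lin1_x] at this
    exact this.symm
  have hβ2 : β * β = 1 := by
    have := (hlin sy csy).2
    rw [hsy, hσ, lin2_y, ← hsy, hl1y, zero_mul, zero_add] at this
    exact this.symm
  have hαc : α = 1 ∨ α = -1 := mul_self_eq_one_iff.1 hα2
  have hβc : β = 1 ∨ β = -1 := mul_self_eq_one_iff.1 hβ2
  -- eigen-coordinates
  have hsd : ∀ (c : k) (a : R), c • a = algebraMap k R c * a := fun c a => Algebra.smul_def c a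
  have hsmulσ : ∀ (c : k) (a : R), σ (c • a) = c • σ a := fun c a => map_smul σ c a
  set X₁ : R := (2⁻¹ : k) • (ArSing.x k r + α • sx) with hX₁
  set Y₁ : R := (2⁻¹ : k) • (ArSing.y k r + β • sy) with hY₁
  have σX₁ : σ X₁ = α • X₁ := by
    rw [hX₁, hsmulσ, map_add, hsmulσ, hsx, hσ, smul_comm α, smul_add α, smul_smul α α, hα2,
      one_smul, add_comm]
  have σY₁ : σ Y₁ = β • Y₁ := by
    rw [hY₁, hsmulσ, map_add, hsmulσ, hsy, hσ, smul_comm β, smul_add β, smul_smul β β, hβ2,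
      one_smul, add_comm]
  have cX₁ : cst r X₁ = 0 := by rw [hX₁]; simp [cst_x, csx]
  have cY₁ : cst r Y₁ = 0 := by rw [hY₁]; simp [cst_y, csy]
  have l1X : lin1 r X₁ = 1 := by
    rw [hX₁, lin1_smul, lin1_add, lin1_smul, lin1_x, ← hα, hα2]; field_simp; norm_num
  have l1Y : lin1 r Y₁ = 0 := by
    rw [hY₁, lin1_smul, lin1_add, lin1_smul, lin1_y, hl1y, mul_zero, add_zero, mul_zero]
  have l2Y : lin2 r Y₁ = 1 := by
    rw [hY₁, lin2_smul, lin2_add, lin2_smul, lin2_y, ← hβ, hβ2]; field_simp; norm_num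
  have hdet₁ : lin1 r X₁ * lin2 r Y₁ - lin2 r X₁ * lin1 r Y₁ ≠ 0 := by rw [l1X, l1Y, l2Y]; simp
  obtain ⟨ψ, hψ⟩ := exists_hom X₁ cX₁
  have hψC : ∀ c, ψ (C c) = algebraMap k R c := fun c => by
    rw [← PowerSeries.algebraMap_eq, ψ.commutes]
  have hcψ : ∀ f, cst r (ψ f) = constantCoeff f := cst_hom ψ (by rw [hψ, cX₁])
  have hbij := coord_bijective hr ψ hψ cX₁ cY₁ (by rw [l1X]; exact one_ne_zero) hdet₁
  have σψ : ∀ f, σ (ψ f) = ψ (rescale α f) := by
    have : σ.toAlgHom.comp ψ = ψ.comp (rescaleHom α) :=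
      hom_ext' (by
        simp only [AlgHom.comp_apply, AlgEquiv.coe_toAlgHom, rescaleHom_apply, rescale_X,
          map_mul ψ, hψ, hψC, σX₁, hsd])
        (by simp [hψ, cst_algEquiv, cX₁])
    exact fun f => DFunLike.congr_fun this f
  have hab : ¬ (α = 1 ∧ β = 1) := by
    rintro ⟨ha, hb⟩
    apply hne
    ext z
    obtain ⟨⟨A, B⟩, rfl⟩ := hbij.2 z
    show σ (ψ A + ψ B * Y₁) = ψ A + ψ B * Y₁
    rw [map_add, map_mul, σψ, σψ, σY₁, ha, hb, one_smul, rescale_one, RingHom.id_apply,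
      RingHom.id_apply]
  obtain ⟨⟨A, B⟩, hAB⟩ := hbij.2 (Y₁ * Y₁)
  dsimp only at hAB
  have hinv : rescale α A = A ∧ C β * rescale α B = B := by
    have h := congrArg σ hAB
    rw [map_add, map_mul, map_mul, σψ, σψ, σY₁, smul_mul_smul_comm, hβ2, one_smul, ← hAB,
      hsd, ← hψC, ← mul_assoc, ← map_mul ψ, mul_comm (rescale α B)] at h
    have := hbij.1 (a₁ := (rescale α A, C β * rescale α B)) (a₂ := (A, B)) h
    exact ⟨congrArg Prod.fst this, congrArg Prod.snd this⟩
  have hC2 := C_two_inv h2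
  set Y₂ : R := Y₁ - ψ (C (2⁻¹ : k) * B) with hY₂
  set D : PowerSeries k := A + (C (2⁻¹ : k) * B) ^ 2 with hD
  have hY₂sq : Y₂ * Y₂ = ψ D := by
    have e : ψ (C (2⁻¹ : k) * B) * 2 = ψ B := by
      rw [← map_ofNat ψ 2, ← map_mul]; congr 1; linear_combination B * hC2
    rw [hY₂, hD, map_add ψ, map_pow]
    linear_combination -hAB - Y₁ * e
  have hβB : rescale α B = C β * B := by
    calc rescale α B = C (β * β) * rescale α B := by rw [hβ2, map_one, one_mul]
      _ = C β * B := by rw [map_mul, mul_assoc, hinv.2]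
  have hresC : ∀ c : k, rescale α (C c) = C c := fun c => (rescaleHom α).commutes c
  have σY₂ : σ Y₂ = β • Y₂ := by
    rw [hY₂, map_sub, σψ, σY₁, map_mul (rescale α), hresC, hβB, smul_sub, ← map_smul ψ,
      PowerSeries.smul_eq_C_mul]
    congr 2
    ring
  have hDinv : rescale α D = D := by
    have hCβ : (C β : PowerSeries k) * C β = 1 := by rw [← map_mul, hβ2, map_one]
    rw [hD, map_add, hinv.1, map_pow, map_mul, hresC, hβB]
    linear_combination ((C (2⁻¹ : k)) ^ 2 * B ^ 2) * hCβ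
  have hB0 : constantCoeff B = 0 := by
    have h := congrArg (lin2 r) hAB
    rw [lin2_add, lin2_mul (by omega) _ _ cY₁, lin2_mul (by omega) _ _ cY₁, hcψ, l2Y, cY₁] at h
    obtain ⟨A', hA, -⟩ := exists_split A
    have hA0 : constantCoeff A = 0 := by
      simpa [hcψ, cY₁] using congrArg (cst r) hAB
    rw [hA, hA0, map_zero, zero_add, map_mul, hψ, mul_comm, lin2_mul (by omega) _ _ cX₁, hcψ] at h
    have h1 := congrArg (lin1 r) hAB
    rw [lin1_add, lin1_mul (by omega) _ _ cY₁, lin1_mul (by omega) _ _ cY₁, hcψ, l1Y, cY₁,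
      hA, hA0, map_zero, zero_add, map_mul, hψ, mul_comm, lin1_mul (by omega) _ _ cX₁, hcψ, l1X,
      mul_zero, add_zero, mul_one, mul_zero] at h1
    rw [h1, zero_mul, zero_add, mul_one, zero_mul] at h
    exact h
  have cY₂ : cst r Y₂ = 0 := by rw [hY₂, map_sub, cY₁, hcψ, map_mul, hB0, mul_zero, sub_zero]
  obtain ⟨B', hB'⟩ := X_dvd_iff.2 hB0
  set e := constantCoeff (C (2⁻¹ : k) * B') with he
  have hlY₂ : lin1 r Y₂ = -e ∧ lin2 r Y₂ = 1 - e * lin2 r X₁ := by
    have hw : Y₂ = Y₁ - ψ (C (2⁻¹ : k) * B') * X₁ := by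
      rw [hY₂, hB', ← hψ, ← map_mul]; ring_nf
    constructor
    · rw [hw, lin1_sub, lin1_mul (by omega) _ _ cX₁, hcψ, l1Y, l1X, ← he]; ring
    · rw [hw, lin2_sub, lin2_mul (by omega) _ _ cX₁, hcψ, l2Y, ← he]
  have hdet₂ : lin1 r X₁ * lin2 r Y₂ - lin2 r X₁ * lin1 r Y₂ ≠ 0 := by
    rw [hlY₂.1, hlY₂.2, l1X]; ring_nf; exact one_ne_zero
  have h2P : (2 : PowerSeries k) ≠ 0 := fun h => by
    apply h2
    have := congrArg constantCoeff h
    rwa [map_ofNat, map_zero] at this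
  obtain ⟨p, q, hpq⟩ := nf_exists Y₂
  have hp0 : constantCoeff p = 0 := by rwa [hpq, cst_nf] at cY₂
  have hsq : nf r (p * p + q * q * X ^ (r + 1)) (p * q + q * p) = ψ D := by
    rw [← nf_mul, ← hpq, hY₂sq]
  have hDne : D ≠ 0 := by
    intro h
    rw [h, map_zero] at hsq
    obtain ⟨a1, a2⟩ := nf_eq_zero hsq
    have hpq0 : p * q = 0 :=
      (mul_eq_zero.1 (by linear_combination a2 : (2 : PowerSeries k) * (p * q) = 0)).resolve_left h2P
    have hp : p = 0 ∧ q = 0 := by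
      rcases mul_eq_zero.1 hpq0 with h' | h'
      · refine ⟨h', ?_⟩
        rw [h', zero_mul, zero_add] at a1
        exact mul_self_eq_zero.1 ((mul_eq_zero.1 a1).resolve_right (pow_ne_zero _ X_ne_zero))
      · refine ⟨?_, h'⟩
        rw [h', zero_mul, zero_mul, add_zero] at a1
        exact mul_self_eq_zero.1 a1
    apply hdet₂
    rw [hpq, hp.1, hp.2]
    simp [nf, lin1, lin2]
  obtain ⟨n, u, hu, hu0⟩ := exists_eq_pow_mul hDne
  obtain ⟨P₀, Q₀, hP₀⟩ : ∃ P Q, X₁ ^ n = nf r (X ^ n * P) Q ∧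
      constantCoeff P = 1 ∧ X ^ (n - 1) ∣ Q := by
    obtain ⟨P, Q, h1, h2, h3⟩ := coord_pow hr cX₁ n
    exact ⟨P, Q, h1, by rw [h2, l1X, one_pow], h3⟩
  obtain ⟨hPQ, hP1, hQ⟩ := hP₀
  obtain ⟨Q₁, rfl⟩ := hQ
  obtain ⟨up, uq, huq⟩ := nf_exists (ψ u)
  have hup : constantCoeff up = constantCoeff u := by
    rw [← hcψ u, huq, cst_nf]
  rw [hu, map_mul ψ, map_pow, hψ, hPQ, huq, nf_mul] at hsq
  obtain ⟨eP, eQ⟩ := nf_inj hsq
  have hn2 : 2 ≤ n := by
    by_contra hlt
    push Not at hlt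
    have h := congrArg (coeff n) eP
    obtain ⟨p₁, rfl⟩ := X_dvd_iff.2 hp0
    rw [map_add, map_add, coeff_mul_X_pow', if_neg (by omega), coeff_mul_X_pow',
      if_neg (by omega), show X * p₁ * (X * p₁) = X ^ 2 * (p₁ * p₁) by ring,
      coeff_X_pow_mul', if_neg (by omega), mul_assoc, coeff_X_pow_mul', if_pos le_rfl] at h
    simp [hP1, hup] at h
    exact hu0 h.symm
  have hl1p : lin1 r Y₂ = coeff 1 p := by simp [hpq, lin1, pCoord_nf]
  have hl2q : lin2 r Y₂ = constantCoeff q := by simp [hpq, lin2, pCoord_nf]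
  have hl2X : lin2 r X₁ = lin2 r X₁ := rfl
  have hp1 : coeff 1 p = 0 := by
    obtain ⟨p₁, rfl⟩ := X_dvd_iff.2 hp0
    by_cases hn3 : 3 ≤ n
    · have h := congrArg (coeff 2) eP
      rw [map_add, map_add, coeff_mul_X_pow', if_neg (by omega), coeff_mul_X_pow',
        if_neg (by omega), show X * p₁ * (X * p₁) = X ^ 2 * (p₁ * p₁) by ring,
        coeff_X_pow_mul', if_pos le_rfl, mul_assoc, coeff_X_pow_mul', if_neg (by omega)] at h
      simpa [coeff_succ_X_mul] using h
    · obtain rfl : n = 2 := by omega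
      have h := congrArg (coeff 2) eP
      rw [map_add, map_add, coeff_mul_X_pow', if_neg (by omega), coeff_mul_X_pow',
        if_neg (by omega), show X * p₁ * (X * p₁) = X ^ 2 * (p₁ * p₁) by ring,
        coeff_X_pow_mul', if_pos le_rfl, mul_assoc, coeff_X_pow_mul', if_pos le_rfl] at h
      simp [hP1, hup] at h
      have h' := congrArg (coeff 1) eQ
      -- `q`-component of `X₁²`
      have hQ1 : constantCoeff Q₁ = 2 * lin2 r X₁ := by
        have hs := congrArg (fun a => coeff 1 (pCoord r a).2) hPQ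
        obtain ⟨a, b, hab'⟩ := nf_exists X₁
        have ha0 : constantCoeff a = 0 := by rwa [hab', cst_nf] at cX₁
        have ha1 : coeff 1 a = 1 := by simpa [hab', lin1, pCoord_nf] using l1X
        obtain ⟨a₁, rfl⟩ := X_dvd_iff.2 ha0
        rw [hab', sq, nf_mul] at hs
        simp [pCoord_nf, coeff_succ_X_mul, mul_assoc] at hs ha1
        rw [mul_comm b] at hs
        simp [mul_assoc, coeff_succ_X_mul, ha1] at hs
        rw [hab', ← hs]
        simp [lin2, pCoord_nf]
        ring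
      rw [map_add, map_add] at h'
      simp [mul_assoc, coeff_succ_X_mul, coeff_X_pow_mul', mul_comm q, hup, hQ1, hP1] at h'
      have hdd := hdet₂
      rw [l1X, hl1p, hl2q, coeff_succ_X_mul, coeff_zero_eq_constantCoeff_apply] at hdd
      rw [coeff_succ_X_mul, coeff_zero_eq_constantCoeff_apply]
      have key : constantCoeff p₁ * (1 * constantCoeff q - lin2 r X₁ * constantCoeff p₁) * 2 = 0 := by
        linear_combination h' - 2 * lin2 r X₁ * h
      exact (mul_eq_zero.1 ((mul_eq_zero.1 key).resolve_right h2)).resolve_right hdd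
  have hq0 : constantCoeff q ≠ 0 := by
    intro h
    apply hdet₂
    rw [hl2q, hl1p, h, hp1, mul_zero, mul_zero, sub_zero]
  obtain ⟨p₂, hp2⟩ : X ^ 2 ∣ p := X_pow_dvd_iff.2 fun i hi => by
    rcases i with - | - | i
    · rwa [coeff_zero_eq_constantCoeff_apply]
    · exact hp1
    · omega
  have hn3 : 3 ≤ n := by
    by_contra hlt
    obtain rfl : n = 2 := by omega
    have h := congrArg (coeff 2) eP
    rw [map_add, map_add, coeff_mul_X_pow', if_neg (by omega), coeff_mul_X_pow', if_neg (by omega),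
      hp2, show X ^ 2 * p₂ * (X ^ 2 * p₂) = X ^ 4 * (p₂ * p₂) by ring, coeff_X_pow_mul',
      if_neg (by omega), mul_assoc, coeff_X_pow_mul', if_pos le_rfl] at h
    simp [hP1, hup] at h
    exact hu0 h.symm
  have hpdiv : X ^ (n - 1) ∣ p := by
    have hq : IsUnit (2 * q : PowerSeries k) :=
      isUnit_iff_constantCoeff.2 (isUnit_iff_ne_zero.2 (by simp [h2, hq0, map_ofNat]))
    refine hq.dvd_mul_left.1 ?_
    have : X ^ (n - 1) ∣ X ^ n * P₀ * uq + X ^ (n - 1) * Q₁ * up := by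
      refine dvd_add ((dvd_mul_of_dvd_left (dvd_mul_of_dvd_left (pow_dvd_pow _ (by omega)) _) _)) ?_
      exact dvd_mul_of_dvd_left (dvd_mul_right _ _) _
    rw [← eQ] at this
    convert this using 1
    ring
  obtain ⟨p₃, hp3⟩ := hpdiv
  have hcoefP : ∀ i, i ≤ n → coeff i (p * p) = 0 := fun i hi => by
    rw [hp3, show X ^ (n - 1) * p₃ * (X ^ (n - 1) * p₃) = X ^ (2 * (n - 1)) * (p₃ * p₃) by ring,
      coeff_X_pow_mul', if_neg (by omega)]
  have hcoefR : ∀ i, i ≤ n → coeff i (X ^ n * P₀ * up + X ^ (n - 1) * Q₁ * uq * X ^ (r + 1)) =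
      if i = n then constantCoeff u else 0 := fun i hi => by
    rw [map_add, show X ^ (n - 1) * Q₁ * uq * X ^ (r + 1) =
      X ^ (n - 1 + (r + 1)) * (Q₁ * uq) by ring, coeff_X_pow_mul' (Q₁ * uq),
      if_neg (by omega), add_zero, mul_assoc, coeff_X_pow_mul']
    split_ifs with h1 h2 h3
    · subst h2; simp [hP1, hup]
    · omega
    · omega
    · rfl
  have hnr : n = r + 1 := by
    rcases lt_trichotomy n (r + 1) with h | h | h
    · have e := congrArg (coeff n) eP
      rw [map_add, hcoefP n le_rfl, coeff_mul_X_pow', if_neg (by omega), hcoefR n le_rfl,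
        if_pos rfl, add_zero] at e
      exact absurd e.symm hu0
    · exact h
    · have e := congrArg (coeff (r + 1)) eP
      rw [map_add, hcoefP _ h.le, coeff_mul_X_pow', if_pos le_rfl, Nat.sub_self, hcoefR _ h.le,
        if_neg (by omega), zero_add, coeff_zero_eq_constantCoeff_apply, map_mul] at e
      exact absurd (mul_self_eq_zero.1 e) hq0
  subst hnr
  have hαn : α ^ (r + 1) = 1 := by
    have h := congrArg (coeff (r + 1)) hDinv
    rw [coeff_rescale, hu, coeff_X_pow_mul', if_pos le_rfl, Nat.sub_self,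
      coeff_zero_eq_constantCoeff_apply] at h
    exact mul_right_cancel₀ hu0 (by rw [h, one_mul])
  have huinv : rescale α u = u := by
    have h := hDinv
    rw [hu, map_mul, map_pow, rescale_X, mul_pow, ← map_pow, hαn, map_one, one_mul] at h
    exact mul_left_cancel₀ (pow_ne_zero _ X_ne_zero) h
  have hodd : α = -1 → Odd r := by
    intro h
    rcases Nat.even_or_odd r with hev | hod
    · rw [h, pow_succ, hev.neg_one_pow, one_mul] at hαn
      exact absurd (by linear_combination -hαn : (2 : k) = 0) h2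
    · exact hod
  obtain ⟨w, hwn, hw0, hwinv⟩ := exists_root (r + 1) hn u hu0 α huinv
  set X' : R := ψ (X * w) with hX'
  have cX' : cst r X' = 0 := by rw [hX', hcψ]; simp
  have σX' : σ X' = α • X' := by
    rw [hX', σψ, map_mul, rescale_X, hwinv, mul_assoc, map_mul ψ, hψC, hsd]
  obtain ⟨ψ', hψ'⟩ := exists_hom X' cX'
  have hX'c : X' = ψ w * X₁ := by rw [hX', map_mul, hψ, mul_comm]
  have l1X' : lin1 r X' = constantCoeff w := by
    rw [hX'c, lin1_mul (by omega) _ _ cX₁, hcψ, l1X, mul_one]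
  have l2X' : lin2 r X' = constantCoeff w * lin2 r X₁ := by
    rw [hX'c, lin2_mul (by omega) _ _ cX₁, hcψ]
  have hbij' := coord_bijective hr (Y₀ := Y₂) ψ' hψ' cX' cY₂ (by rw [l1X']; exact hw0) (by
    rw [l1X', l2X']
    rw [l1X, one_mul] at hdet₂
    rw [mul_assoc, ← mul_sub]
    exact mul_ne_zero hw0 hdet₂)
  have hrel : Y₂ * Y₂ = ψ' (X ^ (r + 1)) := by
    rw [hY₂sq, map_pow, hψ', hX', ← map_pow, mul_pow, hwn, hu]
  -- the automorphism
  let L : R →ₗ[k] R :=
    { toFun := fun a => ψ' (pCoord r a).1 + ψ' (pCoord r a).2 * Y₂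
      map_add' := fun a b => by simp only [map_add, Prod.fst_add, Prod.snd_add]; ring
      map_smul' := fun c a => by simp [smul_add, smul_mul_assoc] }
  have hL : ∀ p q, L (nf r p q) = ψ' p + ψ' q * Y₂ := fun p q => by
    show ψ' (pCoord r (nf r p q)).1 + ψ' (pCoord r (nf r p q)).2 * Y₂ = _
    rw [pCoord_nf]
  have hL1 : L 1 = 1 := by
    rw [show (1 : R) = nf r 1 0 by rw [nf_zero_right, map_one], hL, map_one, map_zero, zero_mul,
      add_zero, nf_zero_right, map_one]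
  have hLmul : ∀ a b, L (a * b) = L a * L b := by
    intro a b
    obtain ⟨p, q, rfl⟩ := nf_exists a
    obtain ⟨p', q', rfl⟩ := nf_exists b
    simp only [nf_mul, hL, map_add, map_mul]
    linear_combination (-(ψ' q * ψ' q')) * hrel
  let Φ : R →ₐ[k] R := AlgHom.ofLinearMap L hL1 hLmul
  have hΦ : Function.Bijective Φ := by
    constructor
    · intro a b h
      obtain ⟨p, q, rfl⟩ := nf_exists a
      obtain ⟨p', q', rfl⟩ := nf_exists b
      have h' : ψ' p + ψ' q * Y₂ = ψ' p' + ψ' q' * Y₂ := (hL p q).symm.trans (h.trans (hL p' q'))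
      have := hbij'.1 (a₁ := (p, q)) (a₂ := (p', q')) h'
      rw [(Prod.mk.injEq _ _ _ _).mp this |>.1, (Prod.mk.injEq _ _ _ _).mp this |>.2]
    · intro z
      obtain ⟨⟨p, q⟩, hz⟩ := hbij'.2 z
      exact ⟨nf r p q, (hL p q).trans hz⟩
  refine ⟨α, β, AlgEquiv.ofBijective Φ hΦ, hαc, hβc, hodd, hab, ?_, ?_⟩
  · have hx' : Φ (ArSing.x k r) = X' := by
      rw [← nf_x]
      exact (hL _ _).trans (by rw [hψ', map_zero, zero_mul, add_zero])
    rw [AlgEquiv.symm_apply_eq, map_smul]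
    show σ (Φ _) = α • Φ _
    rw [hx', σX']
  · have hy' : Φ (ArSing.y k r) = Y₂ := by
      rw [← nf_y]
      exact (hL _ _).trans (by rw [map_zero, map_one, one_mul, zero_add])
    rw [AlgEquiv.symm_apply_eq, map_smul]
    show σ (Φ _) = β • Φ _
    rw [hy', σY₂]

end

end ArInv
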