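import Mathlib
import Groth.Agent.ArInv.Fixed

/-!
# The swap of the two branches of a node
-/

set_option autoImplicit false

universe u

namespace ArInv

open PowerSeries

variable {k : Type u} [Field k]

noncomputable section

local notation "R₁" => ArSing.ring k 1

/-- branch map `a ↦ p + e t q` (`e = ±1`) -/
def branch (e : k) (he : e * e = 1) : ArSing.ring k 1 →ₐ[k] PowerSeries k where
  toFun a := (pCoord 1 a).1 + C e * X * (pCoord 1 a).2
  map_one' := by
    rw [show (1 : ArSing.ring k 1) = nf 1 1 0 by rw [nf_zero_right, map_one], pCoord_nf]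
    simp
  map_mul' a b := by
    obtain ⟨p, q, rfl⟩ := nf_exists a
    obtain ⟨p', q', rfl⟩ := nf_exists b
    rw [nf_mul, pCoord_nf, pCoord_nf, pCoord_nf]
    have : (C e : PowerSeries k) * C e = 1 := by rw [← map_mul, he, map_one]
    dsimp only
    linear_combination (-(q * q' * X ^ 2)) * this
  map_zero' := by simp
  map_add' a b := by simp [mul_add]; ring
  commutes' c := by
    rw [← (ι k 1).commutes, ← nf_zero_right, pCoord_nf]
    simp

theorem branch_nf (e : k) (he : e * e = 1) (p q : PowerSeries k) :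
    branch e he (nf 1 p q) = p + C e * X * q := by
  show (pCoord 1 (nf 1 p q)).1 + C e * X * (pCoord 1 (nf 1 p q)).2 = _
  rw [pCoord_nf]

theorem branch_x (e : k) (he : e * e = 1) : branch e he (ArSing.x k 1) = X := by
  rw [← nf_x, branch_nf]; simp

theorem branch_y (e : k) (he : e * e = 1) : branch e he (ArSing.y k 1) = C e * X := by
  rw [← nf_y, branch_nf]; simp

/-- `y = x` -/
abbrev bp (k : Type u) [Field k] : ArSing.ring k 1 →ₐ[k] PowerSeries k := branch 1 (one_mul 1)
/-- `y = -x` -/
abbrev bm (k : Type u) [Field k] : ArSing.ring k 1 →ₐ[k] PowerSeries k := branch (-1) (by ring)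

theorem branch_ext {ψ χ : ArSing.ring k 1 →ₐ[k] PowerSeries k}
    (hx : ψ (ArSing.x k 1) = χ (ArSing.x k 1)) (hy : ψ (ArSing.y k 1) = χ (ArSing.y k 1)) : ψ = χ := by
  have h : ψ.comp (ι k 1) = χ.comp (ι k 1) := algHom_ext (by simp [ι_X, hx])
  ext1 a
  obtain ⟨p, q, rfl⟩ := nf_exists a
  simp only [nf, map_add, map_mul, hy]
  rw [show ψ (ι k 1 p) = χ (ι k 1 p) from DFunLike.congr_fun h p,
    show ψ (ι k 1 q) = χ (ι k 1 q) from DFunLike.congr_fun h q]

theorem branches_injective (h2 : (2 : k) ≠ 0) (a : R₁) (hp : bp k a = 0) (hm : bm k a = 0) :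
    a = 0 := by
  obtain ⟨p, q, rfl⟩ := nf_exists a
  rw [branch_nf, map_one, one_mul] at hp
  rw [branch_nf, map_neg, map_one, neg_one_mul] at hm
  have h2' : (2 : PowerSeries k) ≠ 0 := fun h => by
    apply h2
    have := congrArg constantCoeff h
    rwa [map_ofNat, map_zero] at this
  have hp0 : p = 0 :=
    (mul_eq_zero.1 (by linear_combination hp + hm : (2 : PowerSeries k) * p = 0)).resolve_left h2'
  subst hp0
  have hq : q = 0 := (mul_eq_zero.1 (by linear_combination hp : X * q = 0)).resolve_left X_ne_zero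
  simp [hq, nf]

theorem branches_surjective (h2 : (2 : k) ≠ 0) (P H : PowerSeries k)
    (h : constantCoeff P = constantCoeff H) : ∃ a : R₁, bp k a = P ∧ bm k a = H := by
  obtain ⟨D, hD⟩ : X ∣ P - H := X_dvd_iff.2 (by rw [map_sub, h, sub_self])
  refine ⟨nf 1 (C (2⁻¹ : k) * (P + H)) (C (2⁻¹ : k) * D), ?_, ?_⟩
  · rw [branch_nf, map_one]
    linear_combination P * C_two_inv h2 - C (2⁻¹ : k) * hD
  · rw [branch_nf, map_neg, map_one]
    linear_combination H * C_two_inv h2 + C (2⁻¹ : k) * hD

theorem swap (h2 : (2 : k) ≠ 0)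
    (σ : R₁ ≃ₐ[k] R₁) (hx : σ (ArSing.x k 1) = ArSing.y k 1)
    (hy : σ (ArSing.y k 1) = ArSing.x k 1)
    (φ : R₁ →ₐ[k] R₁) (hφu : φ (ArSing.x k 1 + ArSing.y k 1) = ArSing.x k 1 + ArSing.y k 1)
    (hφv : φ (ArSing.y k 1 - ArSing.x k 1) = (ArSing.y k 1 - ArSing.x k 1) ^ 2) :
    (∀ a : R₁, σ a = a ↔ a ∈ φ.range) ∧ Function.Injective φ ∧
    Ideal.span (Set.range fun a : R₁ => σ a - a) = Ideal.span {ArSing.y k 1 - ArSing.x k 1} ∧
    (ArSing.y k 1 - ArSing.x k 1) ∉ nonZeroDivisors R₁ ∧
    Ideal.span {ArSing.y k 1 - ArSing.x k 1} ∈ minimalPrimes R₁ ∧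
    ¬ φ.toRingHom.Flat := by
  set u := ArSing.x k 1 + ArSing.y k 1 with hu
  set v := ArSing.y k 1 - ArSing.x k 1 with hv
  have hC2 := C_two_inv h2
  have h2P : ∀ {a b : PowerSeries k}, 2 * a = 2 * b → a = b := fun {a b} h => by
    calc a = C (2⁻¹ : k) * (2 * a) := by linear_combination -a * hC2
      _ = b := by rw [h]; linear_combination b * hC2
  have bpu : bp k u = 2 * X := by simp [hu, branch_x, branch_y]; ring
  have bpv : bp k v = 0 := by simp [hv, branch_x, branch_y]
  have bmu : bm k u = 0 := by simp [hu, branch_x, branch_y]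
  have bmv : bm k v = -2 * X := by simp [hv, branch_x, branch_y]; ring
  have σp : ∀ a, bp k (σ a) = bp k a := fun a => DFunLike.congr_fun
    (branch_ext (ψ := (bp k).comp σ.toAlgHom) (χ := bp k) (by simp [hx, branch_x, branch_y])
      (by simp [hy, branch_x, branch_y])) a
  have σm : ∀ a, bm k (σ a) = rescale (-1) (bm k a) := fun a => DFunLike.congr_fun
    (branch_ext (ψ := (bm k).comp σ.toAlgHom) (χ := (rescaleHom (-1)).comp (bm k))
      (by simp [hx, branch_x, branch_y, rescale_X]) (by simp [hy, branch_x, branch_y, rescale_X])) a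
  have φp : ∀ a, bp k (φ a) = bp k a := by
    have e1 := congrArg (bp k) hφu
    have e2 := congrArg (bp k) hφv
    rw [map_pow, bpv] at e2
    rw [bpu] at e1
    simp only [hu, hv, map_add, map_sub] at e1 e2
    refine fun a => DFunLike.congr_fun (branch_ext (ψ := (bp k).comp φ) (χ := bp k) ?_ ?_) a
    · rw [AlgHom.comp_apply, branch_x]
      exact h2P (by linear_combination e1 - e2)
    · rw [AlgHom.comp_apply, branch_y, map_one, one_mul]
      exact h2P (by linear_combination e1 + e2)
  -- the substitution `t ↦ -2t²`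
  let hh : PowerSeries k →ₐ[k] PowerSeries k := (sqHom k).comp (rescaleHom (-2))
  have hhX : hh X = -2 * X ^ 2 := by
    simp only [hh, AlgHom.comp_apply, rescaleHom_apply, rescale_X, map_mul]
    rw [show (C (-2 : k) : PowerSeries k) = algebraMap k (PowerSeries k) (-2) by rw [algebraMap_eq],
      AlgHom.commutes, algebraMap_eq, subHom_X, map_neg, map_ofNat]
  have φm : ∀ a, bm k (φ a) = hh (bm k a) := by
    have e1 := congrArg (bm k) hφu
    have e2 := congrArg (bm k) hφv
    rw [map_pow, bmv] at e2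
    rw [bmu] at e1
    simp only [hu, hv, map_add, map_sub] at e1 e2
    refine fun a => DFunLike.congr_fun (branch_ext (ψ := (bm k).comp φ) (χ := hh.comp (bm k)) ?_ ?_) a
    · rw [AlgHom.comp_apply, AlgHom.comp_apply, branch_x, hhX]
      exact h2P (by linear_combination e1 - e2)
    · rw [AlgHom.comp_apply, AlgHom.comp_apply, branch_y, map_mul hh, map_neg (C : k →+* _),
        map_one, map_neg, map_one, hhX]
      exact h2P (by linear_combination e1 + e2)
  have rescale_inj : ∀ {c : k}, c ≠ 0 → Function.Injective (rescaleHom (k := k) c) := by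
    intro c hc f g h
    ext n
    have := congrArg (coeff n) h
    simp only [rescaleHom_apply, coeff_rescale] at this
    exact mul_left_cancel₀ (pow_ne_zero _ hc) this
  have hm2 : (-2 : k) ≠ 0 := neg_ne_zero.2 h2
  have hh0 : ∀ f, constantCoeff (hh f) = constantCoeff f := fun f => by
    simp only [hh, AlgHom.comp_apply, rescaleHom_apply, constantCoeff_sqHom]
    rw [← coeff_zero_eq_constantCoeff_apply, coeff_rescale]
    simp
  have hcc : ∀ a : R₁, constantCoeff (bp k a) = constantCoeff (bm k a) := fun a => by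
    obtain ⟨p, q, rfl⟩ := nf_exists a
    simp [branch_nf]
  have heq : ∀ {a b : R₁}, bp k a = bp k b → bm k a = bm k b → a = b := fun {a b} h h' =>
    sub_eq_zero.1 (branches_injective h2 _ (by rw [map_sub, h, sub_self]) (by rw [map_sub, h', sub_self]))
  have hvm : ∀ a, a ∈ Ideal.span {v} ↔ bp k a = 0 := by
    intro a
    rw [Ideal.mem_span_singleton']
    constructor
    · rintro ⟨b, rfl⟩
      rw [map_mul, bpv, mul_zero]
    · intro ha
      obtain ⟨w, hw⟩ : X ∣ bm k a := X_dvd_iff.2 (by rw [← hcc, ha, map_zero])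
      obtain ⟨b, hb1, hb2⟩ := branches_surjective h2
        (C (constantCoeff (C (-(2⁻¹) : k) * w))) (C (-(2⁻¹) : k) * w) (by rw [constantCoeff_C])
      refine ⟨b, heq (by rw [map_mul, bpv, mul_zero, ha]) ?_⟩
      rw [map_mul, hb2, bmv, hw, map_neg]
      linear_combination (X * w) * hC2
  have hspan : Ideal.span (Set.range fun a : R₁ => σ a - a) = Ideal.span {v} := by
    refine le_antisymm (fixed_span_le σ fun a => ?_) ?_
    · rw [hvm, map_sub, σp, sub_self]
    · rw [Ideal.span_singleton_le_iff_mem]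
      have h : σ v - v ∈ Ideal.span (Set.range fun a : R₁ => σ a - a) := Ideal.subset_span ⟨_, rfl⟩
      rw [show σ v - v = (-2) * v by rw [hv, map_sub, hx, hy]; ring] at h
      exact (Ideal.unit_mul_mem_iff_mem _ (two_isUnit h2).neg).1 h
  have huv : u * v = 0 :=
    branches_injective h2 _ (by rw [map_mul, bpv, mul_zero]) (by rw [map_mul, bmu, zero_mul])
  have hune : u ∉ Ideal.span {v} := by
    rw [hvm, bpu]
    intro h
    have := h2P (a := X) (b := 0) (by rw [h, mul_zero])
    exact X_ne_zero this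
  have hprime : (Ideal.span {v}).IsPrime := by
    have : Ideal.span {v} = RingHom.ker (bp k) := by ext a; rw [hvm, RingHom.mem_ker]
    rw [this]
    exact RingHom.ker_isPrime _
  refine ⟨fun a => ?_, fun a b hab => heq (by rw [← φp, hab, φp]) ?_, hspan, ?_, ⟨⟨hprime, bot_le⟩, ?_⟩, ?_⟩
  · constructor
    · intro h
      obtain ⟨g, hg⟩ := (even_iff h2 (bm k a)).1 (by rw [← σm, h])
      obtain ⟨b, hb1, hb2⟩ := branches_surjective h2 (bp k a) (rescale (-(2⁻¹) : k) g) (by
        rw [hcc, hg, constantCoeff_sqHom]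
        rw [← coeff_zero_eq_constantCoeff_apply, ← coeff_zero_eq_constantCoeff_apply, coeff_rescale]
        simp)
      refine ⟨b, heq ((φp b).trans hb1) ?_⟩
      rw [AlgHom.toRingHom_eq_coe, RingHom.coe_coe, φm, hb2, hg]
      simp only [hh, AlgHom.comp_apply, rescaleHom_apply, rescale_rescale]
      congr 1
      rw [show -(2⁻¹) * (-2 : k) = 1 by field_simp, rescale_one, RingHom.id_apply]
    · rintro ⟨b, rfl⟩
      refine heq (σp _) ?_
      rw [σm, AlgHom.toRingHom_eq_coe, RingHom.coe_coe, φm]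
      exact (even_iff h2 _).2 ⟨_, rfl⟩
  · have := congrArg (bm k) hab
    rw [φm, φm] at this
    exact rescale_inj hm2 (sqHom_injective this)
  · intro h
    have hu0 : u = 0 := (mem_nonZeroDivisors_iff_right.1 h) u huv
    exact hune (hu0 ▸ zero_mem _)
  · intro Q hQ hle
    rw [Ideal.span_singleton_le_iff_mem]
    exact (hQ.1.mem_or_mem (huv ▸ zero_mem Q)).resolve_left fun hu => hune (hle hu)
  · intro hflat
    obtain ⟨N, a, b, z, hz, -, ha⟩ := flat_pair φ.toRingHom hflat u 0 v 0 (by
      show φ u * v + φ 0 * 0 = 0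
      rw [mul_zero, add_zero, hφu, huv])
    change v = ∑ j, φ (a j) * z j at hz
    have hj : ∀ j, X ^ 2 ∣ bm k (φ (a j) * z j) := by
      intro j
      have h0 : bp k (a j) = 0 := by
        have := congrArg (bp k) (ha j)
        rw [map_add, map_mul, map_mul, map_zero, zero_mul, add_zero, bpu] at this
        refine h2P ?_
        rw [mul_zero]
        exact (mul_eq_zero.1 (by linear_combination this : X * (2 * bp k (a j)) = 0)).resolve_left X_ne_zero
      obtain ⟨w, hw⟩ : X ∣ bm k (a j) := X_dvd_iff.2 (by rw [← hcc, h0, map_zero])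
      rw [map_mul, φm, hw, map_mul hh, hhX]
      exact ⟨-2 * hh w * bm k (z j), by ring⟩
    have : X ^ 2 ∣ bm k v := by
      rw [hz, map_sum]
      exact Finset.dvd_sum fun j _ => hj j
    rw [bmv] at this
    have h1 := X_pow_dvd_iff.1 this 1 (by norm_num)
    rw [show (-2 : PowerSeries k) = C (-2 : k) by rw [map_neg, map_ofNat], coeff_C_mul, coeff_one_X, mul_one] at h1
    exact hm2 h1

end

end ArInv
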