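import Mathlib
import Groth.Agent.ArInv.Swap

/-!
# Involutions of the node
-/

set_option autoImplicit false

universe u

namespace ArInv

open PowerSeries

variable {k : Type u} [Field k]

noncomputable section

local notation "R₁" => ArSing.ring k 1

theorem constantCoeff_algHom (g : PowerSeries k →ₐ[k] PowerSeries k) (f : PowerSeries k) :
    constantCoeff (g f) = constantCoeff f := by
  obtain ⟨f', hf⟩ : X ∣ f - C (constantCoeff f) := X_dvd_iff.2 (by simp)
  conv_lhs => rw [sub_eq_iff_eq_add.1 hf]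
  rw [map_add g, map_mul g, ← algebraMap_eq, g.commutes, algebraMap_eq, map_add, map_mul,
    constantCoeff_algHom_X, zero_mul, zero_add, constantCoeff_C]

theorem constantCoeff_branches (a : R₁) : constantCoeff (bp k a) = constantCoeff (bm k a) := by
  obtain ⟨p, q, rfl⟩ := nf_exists a
  simp [branch_nf]

theorem branches_eq (h2 : (2 : k) ≠ 0) {a b : R₁} (h : bp k a = bp k b) (h' : bm k a = bm k b) :
    a = b :=
  sub_eq_zero.1 (branches_injective h2 _ (by rw [map_sub, h, sub_self]) (by rw [map_sub, h', sub_self]))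

/-- endomorphism with given branches -/
theorem exists_endo (h2 : (2 : k) ≠ 0) (P H : R₁ →ₐ[k] PowerSeries k)
    (hc : ∀ a, constantCoeff (P a) = constantCoeff (H a)) :
    ∃ φ : R₁ →ₐ[k] R₁, (∀ a, bp k (φ a) = P a) ∧ ∀ a, bm k (φ a) = H a := by
  choose φ hp hm using fun a => branches_surjective h2 (P a) (H a) (hc a)
  refine ⟨{ toFun := φ
            map_one' := branches_eq h2 (by simp [hp]) (by simp [hm])
            map_mul' := fun a b => branches_eq h2 (by simp [hp]) (by simp [hm])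
            map_zero' := branches_eq h2 (by simp [hp]) (by simp [hm])
            map_add' := fun a b => branches_eq h2 (by simp [hp]) (by simp [hm])
            commutes' := fun c => branches_eq h2 (by simp [hp]) (by simp [hm]) }, hp, hm⟩

theorem exists_auto (h2 : (2 : k) ≠ 0) (g₁ g₂ : PowerSeries k ≃ₐ[k] PowerSeries k) :
    ∃ φ : R₁ ≃ₐ[k] R₁, (∀ a, bp k (φ a) = g₁ (bp k a)) ∧ ∀ a, bm k (φ a) = g₂ (bm k a) := by
  obtain ⟨φ, hp, hm⟩ := exists_endo h2 (g₁.toAlgHom.comp (bp k)) (g₂.toAlgHom.comp (bm k)) fun a => by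
    simp only [AlgHom.comp_apply, constantCoeff_algHom]; exact constantCoeff_branches a
  obtain ⟨ψ, hp', hm'⟩ := exists_endo h2 (g₁.symm.toAlgHom.comp (bp k)) (g₂.symm.toAlgHom.comp (bm k))
    fun a => by simp only [AlgHom.comp_apply, constantCoeff_algHom]; exact constantCoeff_branches a
  refine ⟨AlgEquiv.ofAlgHom φ ψ ?_ ?_, fun a => hp a, fun a => hm a⟩
  · ext1 a; exact branches_eq h2 (by simp [hp, hp']) (by simp [hm, hm'])
  · ext1 a; exact branches_eq h2 (by simp [hp, hp']) (by simp [hm, hm'])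

theorem exists_branch_swap (h2 : (2 : k) ≠ 0) :
    ∃ π : R₁ ≃ₐ[k] R₁, (∀ a, bp k (π a) = bm k a) ∧ ∀ a, bm k (π a) = bp k a := by
  obtain ⟨φ, hp, hm⟩ := exists_endo h2 (bm k) (bp k) fun a => (constantCoeff_branches a).symm
  refine ⟨AlgEquiv.ofAlgHom φ φ ?_ ?_, hp, hm⟩ <;>
    (ext1 a; exact branches_eq h2 (by simp [hp, hm]) (by simp [hp, hm]))

theorem node_class (h2 : (2 : k) ≠ 0)
    (σ : R₁ ≃ₐ[k] R₁) (hσ : ∀ a, σ (σ a) = a) (hne : σ ≠ AlgEquiv.refl) :
    ∃ φ : R₁ ≃ₐ[k] R₁,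
      (φ.symm (σ (φ (ArSing.x k 1))) = ArSing.x k 1 ∧ φ.symm (σ (φ (ArSing.y k 1))) = -ArSing.y k 1) ∨
      (φ.symm (σ (φ (ArSing.x k 1))) = -ArSing.x k 1 ∧ φ.symm (σ (φ (ArSing.y k 1))) = -ArSing.y k 1) ∨
      (φ.symm (σ (φ (ArSing.x k 1))) = ArSing.y k 1 ∧ φ.symm (σ (φ (ArSing.y k 1))) = ArSing.x k 1) := by
  set u := ArSing.x k 1 + ArSing.y k 1 with hu
  set v := ArSing.y k 1 - ArSing.x k 1 with hv
  have bpv : bp k v = 0 := by simp [hv, branch_x, branch_y]
  have bmu : bm k u = 0 := by simp [hu, branch_x, branch_y]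
  have h0 : bp k (σ u) * bp k (σ v) = 0 ∧ bm k (σ u) * bm k (σ v) = 0 := by
    have : u * v = 0 :=
      branches_injective h2 _ (by rw [map_mul, bpv, mul_zero]) (by rw [map_mul, bmu, zero_mul])
    constructor <;> rw [← map_mul, ← map_mul, this, map_zero, map_zero]
  have hune : σ u ≠ 0 := fun h => by
    have hu0 : u = 0 := σ.injective (h.trans (map_zero σ).symm)
    have := congrArg (coeff 1 ∘ bp k) hu0
    simp [hu, branch_x, branch_y, one_add_one_eq_two, h2] at this
  have hvne : σ v ≠ 0 := fun h => by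
    have hv0 : v = 0 := σ.injective (h.trans (map_zero σ).symm)
    have := congrArg (coeff 1 ∘ bm k) hv0
    simp [hv, branch_x, branch_y] at this
    exact h2 (by linear_combination -this)
  have hcases : (bp k (σ v) = 0 ∧ bm k (σ u) = 0) ∨ (bp k (σ u) = 0 ∧ bm k (σ v) = 0) := by
    rcases mul_eq_zero.1 h0.1 with h | h <;> rcases mul_eq_zero.1 h0.2 with h' | h'
    · exact absurd (branches_injective h2 _ h h') hune
    · exact Or.inr ⟨h, h'⟩
    · exact Or.inl ⟨h, h'⟩
    · exact absurd (branches_injective h2 _ h h') hvne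
  have hmem : ∀ e (he : e * e = 1), constantCoeff (branch e he (σ (ArSing.x k 1))) = 0 := by
    intro e he
    have hm : σ (ArSing.x k 1) ∈ IsLocalRing.maximalIdeal R₁ := by
      rw [IsLocalRing.mem_maximalIdeal, mem_nonunits_iff]
      intro h
      have := h.map σ.symm
      rw [AlgEquiv.symm_apply_apply] at this
      exact (IsLocalRing.mem_maximalIdeal _).1 x_mem this
    obtain ⟨p, q, hpq⟩ := nf_exists (σ (ArSing.x k 1))
    rw [hpq, mem_maximalIdeal_nf] at hm
    rw [hpq, branch_nf]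
    simp [hm]
  -- the series describing the two branches of `σ`
  set s₁ := bp k (σ (ArSing.x k 1)) with hs₁
  set s₂ := bm k (σ (ArSing.x k 1)) with hs₂
  have e₁ : constantCoeff s₁ = 0 := hmem _ _
  have e₂ : constantCoeff s₂ = 0 := hmem _ _
  set f₁ := subHom s₁ e₁ with hf₁
  set f₂ := subHom s₂ e₂ with hf₂
  have hinvol : ∀ (f f' : PowerSeries k →ₐ[k] PowerSeries k), f (f' X) = X → ∀ z, f (f' z) = z :=
    fun f f' h z => DFunLike.congr_fun (algHom_ext (ψ := f.comp f') (χ := AlgHom.id k _) h) z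
  rcases hcases with ⟨hpv, hmu⟩ | ⟨hpu, hmv⟩
  · have hy₁ : bp k (σ (ArSing.y k 1)) = s₁ := by
      rw [hv, map_sub, map_sub, sub_eq_zero] at hpv; exact hpv
    have hy₂ : bm k (σ (ArSing.y k 1)) = -s₂ := by
      rw [hu, map_add, map_add] at hmu; linear_combination hmu
    have σp : ∀ a, bp k (σ a) = f₁ (bp k a) := fun a => DFunLike.congr_fun
      (branch_ext (ψ := (bp k).comp σ.toAlgHom) (χ := f₁.comp (bp k))
        (by simp only [AlgHom.comp_apply, AlgEquiv.coe_toAlgHom, branch_x, hf₁, subHom_X, hs₁])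
        (by simp only [AlgHom.comp_apply, AlgEquiv.coe_toAlgHom, branch_y, hf₁, map_one, one_mul, subHom_X, hy₁])) a
    have σm : ∀ a, bm k (σ a) = f₂ (bm k a) := fun a => DFunLike.congr_fun
      (branch_ext (ψ := (bm k).comp σ.toAlgHom) (χ := f₂.comp (bm k))
        (by simp only [AlgHom.comp_apply, AlgEquiv.coe_toAlgHom, branch_x, hf₂, subHom_X, hs₂])
        (by simp only [AlgHom.comp_apply, AlgEquiv.coe_toAlgHom, branch_y, map_neg, map_one, neg_one_mul, hf₂, subHom_X, hy₂])) a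
    have i₁ : f₁ (f₁ X) = X := by
      rw [← branch_x (1 : k) (one_mul 1), ← σp, ← σp, hσ]
    have i₂ : f₂ (f₂ X) = X := by
      rw [← branch_x (-1 : k) (by ring), ← σm, ← σm, hσ]
    let F₁ : PowerSeries k ≃ₐ[k] PowerSeries k :=
      AlgEquiv.ofAlgHom f₁ f₁ (AlgHom.ext (hinvol _ _ i₁)) (AlgHom.ext (hinvol _ _ i₁))
    let F₂ : PowerSeries k ≃ₐ[k] PowerSeries k :=
      AlgEquiv.ofAlgHom f₂ f₂ (AlgHom.ext (hinvol _ _ i₂)) (AlgHom.ext (hinvol _ _ i₂))
    obtain ⟨hc₁, g₁, -, hg₁⟩ := linearise h2 F₁ (hinvol _ _ i₁)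
    obtain ⟨hc₂, g₂, -, hg₂⟩ := linearise h2 F₂ (hinvol _ _ i₂)
    set c₁ := coeff 1 (F₁ X)
    set c₂ := coeff 1 (F₂ X)
    obtain ⟨φ, hφp, hφm⟩ := exists_auto h2 g₁ g₂
    set τ : R₁ ≃ₐ[k] R₁ := φ.trans (σ.trans φ.symm) with hτ
    have hφ' : ∀ a, φ (τ a) = σ (φ a) := fun a => by simp [hτ]
    have τp : ∀ a, bp k (τ a) = rescale c₁ (bp k a) := fun a => by
      have h : g₁ (bp k (τ a)) = f₁ (g₁ (bp k a)) := by rw [← hφp, hφ', σp, hφp]
      rw [← hg₁]
      exact (AlgEquiv.symm_apply_apply g₁ _).symm.trans (congrArg g₁.symm h)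
    have τm : ∀ a, bm k (τ a) = rescale c₂ (bm k a) := fun a => by
      have h : g₂ (bm k (τ a)) = f₂ (g₂ (bm k a)) := by rw [← hφm, hφ', σm, hφm]
      rw [← hg₂]
      exact (AlgEquiv.symm_apply_apply g₂ _).symm.trans (congrArg g₂.symm h)
    rcases sq_eq_one_iff.1 hc₁ with h₁ | h₁ <;> rcases sq_eq_one_iff.1 hc₂ with h₂ | h₂
    · exfalso
      apply hne
      have : ∀ a, τ a = a := fun a =>
        branches_eq h2 (by rw [τp, h₁, rescale_one, RingHom.id_apply]) (by rw [τm, h₂, rescale_one, RingHom.id_apply])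
      ext a
      obtain ⟨b, rfl⟩ := φ.surjective a
      rw [← hφ', this]
      rfl
    · refine ⟨φ, Or.inr (Or.inr ⟨?_, ?_⟩)⟩ <;>
        exact branches_eq h2 ((τp _).trans (by simp [h₁, branch_x, branch_y]))
          ((τm _).trans (by simp [h₂, branch_x, branch_y, rescale_X]))
    · obtain ⟨π, hπp, hπm⟩ := exists_branch_swap h2
      refine ⟨π.trans φ, Or.inr (Or.inr ⟨?_, ?_⟩)⟩ <;>
      · show π.symm (τ (π _)) = _
        rw [AlgEquiv.symm_apply_eq]
        exact branches_eq h2 (by simp [τp, hπp, h₁, branch_x, branch_y, rescale_X])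
          (by simp [τm, hπm, h₂, branch_x, branch_y, rescale_X])
    · refine ⟨φ, Or.inr (Or.inl ⟨?_, ?_⟩)⟩ <;>
        exact branches_eq h2 ((τp _).trans (by simp [h₁, branch_x, branch_y, rescale_X]))
          ((τm _).trans (by simp [h₂, branch_x, branch_y, rescale_X]))
  · have hy₁ : bp k (σ (ArSing.y k 1)) = -s₁ := by
      rw [hu, map_add, map_add] at hpu; linear_combination hpu
    have hy₂ : bm k (σ (ArSing.y k 1)) = s₂ := by
      rw [hv, map_sub, map_sub, sub_eq_zero] at hmv; exact hmv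
    have σp : ∀ a, bp k (σ a) = f₁ (bm k a) := fun a => DFunLike.congr_fun
      (branch_ext (ψ := (bp k).comp σ.toAlgHom) (χ := f₁.comp (bm k))
        (by simp only [AlgHom.comp_apply, AlgEquiv.coe_toAlgHom, branch_x, hf₁, subHom_X, hs₁])
        (by simp only [AlgHom.comp_apply, AlgEquiv.coe_toAlgHom, branch_y, map_neg, map_one, neg_one_mul, hf₁, subHom_X, hy₁])) a
    have σm : ∀ a, bm k (σ a) = f₂ (bp k a) := fun a => DFunLike.congr_fun
      (branch_ext (ψ := (bm k).comp σ.toAlgHom) (χ := f₂.comp (bp k))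
        (by simp only [AlgHom.comp_apply, AlgEquiv.coe_toAlgHom, branch_x, hf₂, subHom_X, hs₂])
        (by simp only [AlgHom.comp_apply, AlgEquiv.coe_toAlgHom, branch_y, map_one, one_mul, hf₂, subHom_X, hy₂])) a
    have i₁ : f₁ (f₂ X) = X := by
      rw [← branch_x (1 : k) (one_mul 1), ← σm, ← σp, hσ]
    have i₂ : f₂ (f₁ X) = X := by
      rw [← branch_x (-1 : k) (by ring), ← σp, ← σm, hσ]
    let G : PowerSeries k ≃ₐ[k] PowerSeries k :=
      AlgEquiv.ofAlgHom f₂ f₁ (AlgHom.ext (hinvol _ _ i₂)) (AlgHom.ext (hinvol _ _ i₁))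
    obtain ⟨φ, hφp, hφm⟩ := exists_auto h2 AlgEquiv.refl G
    refine ⟨φ, Or.inl ⟨?_, ?_⟩⟩ <;>
    · rw [AlgEquiv.symm_apply_eq]
      refine branches_eq h2 ?_ ?_
      · rw [σp, hφm]
        show f₁ (f₂ _) = _
        rw [hinvol _ _ i₁, hφp]
        simp [branch_x, branch_y]
      · rw [σm, hφp, hφm]
        show f₂ _ = f₂ _
        simp [branch_x, branch_y]

end

end ArInv
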