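import Mathlib
import Groth.Agent.ArInv.Linearise

/-!
# The smooth case `r = 0`
-/

set_option autoImplicit false

universe u

namespace ArInv

open PowerSeries

noncomputable section

theorem exists_param (k : Type u) [Field k] :
    ∃ e : ArSing.ring k 0 ≃ₐ[k] PowerSeries k,
      e (ArSing.x k 0) = X ^ 2 ∧ e (ArSing.y k 0) = X := by
  let L : ArSing.ring k 0 →ₗ[k] PowerSeries k :=
    { toFun := fun a => sqHom k (pCoord 0 a).1 + X * sqHom k (pCoord 0 a).2
      map_add' := fun a b => by simp only [map_add, Prod.fst_add, Prod.snd_add]; ring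
      map_smul' := fun c a => by simp [smul_add] }
  have hL : ∀ p q, L (nf 0 p q) = sqHom k p + X * sqHom k q := fun p q => by
    show sqHom k (pCoord 0 (nf 0 p q)).1 + X * sqHom k (pCoord 0 (nf 0 p q)).2 = _
    rw [pCoord_nf]
  have hL1 : L 1 = 1 := by
    rw [show (1 : ArSing.ring k 0) = nf 0 1 0 by rw [nf_zero_right, map_one], hL, map_one, map_zero,
      mul_zero, add_zero]
  have hLmul : ∀ a b, L (a * b) = L a * L b := by
    intro a b
    obtain ⟨p, q, rfl⟩ := nf_exists a
    obtain ⟨p', q', rfl⟩ := nf_exists b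
    rw [nf_mul, hL, hL, hL, map_add, map_add, map_mul, map_mul, map_mul, map_mul, map_mul, map_pow,
      subHom_X]
    ring
  let Φ : ArSing.ring k 0 →ₐ[k] PowerSeries k := AlgHom.ofLinearMap L hL1 hLmul
  have hΦ : Function.Bijective Φ := by
    constructor
    · rw [injective_iff_map_eq_zero]
      intro a h
      obtain ⟨p, q, rfl⟩ := nf_exists a
      obtain ⟨hp, hq⟩ := even_odd_unique ((hL p q).symm.trans h)
      simp [hp, hq, nf]
    · intro f
      obtain ⟨a, b, h⟩ := even_odd f
      exact ⟨nf 0 a b, (hL a b).trans h.symm⟩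
  refine ⟨AlgEquiv.ofBijective Φ hΦ, ?_, ?_⟩
  · show L (ArSing.x k 0) = _
    rw [← nf_x, hL, map_zero, mul_zero, add_zero, subHom_X]
  · show L (ArSing.y k 0) = _
    rw [← nf_y, hL, map_zero, map_one, mul_one, zero_add]

theorem case_zero (k : Type u) [Field k] (h2 : (2 : k) ≠ 0)
    (σ : ArSing.ring k 0 ≃ₐ[k] ArSing.ring k 0) (hσ : ∀ a, σ (σ a) = a) (hne : σ ≠ AlgEquiv.refl) :
    ∃ φ : ArSing.ring k 0 ≃ₐ[k] ArSing.ring k 0,
      φ.symm (σ (φ (ArSing.x k 0))) = ArSing.x k 0 ∧
      φ.symm (σ (φ (ArSing.y k 0))) = -ArSing.y k 0 := by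
  obtain ⟨e, hex, hey⟩ := exists_param k
  let F : PowerSeries k ≃ₐ[k] PowerSeries k := e.symm.trans (σ.trans e)
  obtain ⟨hc, g, -, hg⟩ := linearise h2 F (fun f => by simp [F, hσ])
  rcases sq_eq_one_iff.1 hc with h | h
  · exfalso
    apply hne
    ext a
    obtain ⟨f, hf⟩ := g.surjective (e a)
    have := hg f
    rw [h, rescale_one, RingHom.id_apply, AlgEquiv.symm_apply_eq, hf] at this
    simpa [F] using this
  · refine ⟨e.trans (g.trans e.symm), ?_, ?_⟩ <;>
    · apply e.injective
      simp only [AlgEquiv.symm_trans_apply, AlgEquiv.trans_apply, AlgEquiv.symm_symm,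
        AlgEquiv.apply_symm_apply]
      show g.symm (F (g _)) = _
      rw [hg, h]
      simp [hex, hey, rescale_X, neg_pow]

end

end ArInv
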